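import Cfsg.Agent.Lib.GW.Twist.Basic
import Cfsg.Agent.Lib.Block.CentralDefect
import Cfsg.Agent.Lib.Block.RegInt
import Cfsg.Agent.Lib.Char.Clifford
import Cfsg.Agent.Lib.Char.Quotient

/-!
# Characters on the section of the central involution

A character whose central character is a unit on the class function of a twist restricts to the
section of the involution as a multiple of the twist.
-/

set_option autoImplicit false
set_option linter.unusedSectionVars false
set_option maxHeartbeats 1600000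

namespace Cfsg.Lib.GW.Twist

open Cfsg Cfsg.Lib.Block Cfsg.Lib.Char
open Cfsg.Lib.Block.DihSylow (oddPart mem_oddPart)
open scoped ComplexConjugate

universe u

noncomputable local instance (priority := high) fintypeSubgroupTwistSection {A : Type u}
    [Group A] [Fintype A] (H : Subgroup A) : Fintype H := Fintype.ofFinite H

noncomputable local instance (priority := high) fintypeQuotientTwistSection {A : Type u}
    [Group A] [Fintype A] (H : Subgroup A) : Fintype (A ⧸ H) := Fintype.ofFinite _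

variable {G : Type u} [Group G] [Fintype G] [Fact (Nat.Prime 2)] {M : Ideal AlgInt}
  {P : Sylow 2 G} {σ τ : G} {h : ℕ}

/-- The centralizer of the central involution. -/
abbrev cJ {G : Type u} [Group G] (σ : G) (h : ℕ) : Subgroup G :=
  Subgroup.centralizer ({σ ^ h} : Set G)

theorem isIntegral_vec {A : Type u} [Group A] [Fintype A] {f : A → ℂ} (hf : IsClassFunction A f)
    (hint : ∀ a, IsIntegral ℤ (f a)) (η : IrrCharacter A) : IsIntegral ℤ (vec f η) := by
  haveI : Finite (ConjClasses A) := Quotient.finite _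
  haveI := Fintype.ofFinite (ConjClasses A)
  rw [sum_mul_char_eq hf]
  exact IsIntegral.sum _ fun C _ => (hint _).mul (isIntegral_centralChar_irr η _)

/-- An induced block takes the same central values. -/
theorem memLocalIdeal_vec_sub {p : ℕ} (hM : IsPModular p M) {H : Subgroup G}
    {b : Set (IrrCharacter H)} {B : Set (IrrCharacter G)} (hind : IsInducedBlock M H b B)
    {ξ : IrrCharacter H} (hξ : ξ ∈ b) {χ : IrrCharacter G} (hχ : χ ∈ B) {f : G → ℂ}
    (hf : IsClassFunction G f) (hint : ∀ a, IsIntegral ℤ (f a)) :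
    MemLocalIdeal M (vec (fun z : H => f z) ξ - vec f χ) := by
  classical
  haveI : Finite (ConjClasses G) := Quotient.finite _
  haveI := Fintype.ofFinite (ConjClasses G)
  have e : vec (fun z : H => f z) ξ =
      ∑ C : ConjClasses G, f C.out * inducedCentralChar H (ξ : H → ℂ) C.out := by
    rw [vec, ← Finset.sum_fiberwise Finset.univ (fun z : H => ConjClasses.mk (z : G)),
      Finset.sum_div]
    refine Finset.sum_congr rfl fun C _ => ?_
    rw [inducedCentralChar, finsum_mem_eq_toFinset_sum, Finset.mul_sum, Finset.sum_div]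
    have hC : ConjClasses.mk C.out = C := Quotient.out_eq C
    refine Finset.sum_congr ?_ fun z hz => ?_
    · ext z
      simp only [Finset.mem_filter, Finset.mem_univ, true_and, Set.mem_toFinset, Set.mem_ofPred_eq]
      conv_lhs => rw [← hC, ConjClasses.mk_eq_mk_iff_isConj]
      exact ⟨fun a => a.symm, fun a => a.symm⟩
    · simp only [Set.mem_toFinset, Set.mem_ofPred_eq] at hz
      obtain ⟨x, hx⟩ := isConj_iff.1 hz
      rw [← hx, hf C.out x]
      ring
  rw [e, sum_mul_char_eq hf, ← Finset.sum_sub_distrib]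
  refine memLocalIdeal_sum hM _ _ fun C _ => ?_
  rw [← mul_sub]
  exact memLocalIdeal_mul_left hM (isIntegral_mem_locRing hM (hint _)) (hind.2.2 ξ hξ χ hχ _)

variable (D : DihSylow P σ τ h) {L : G → ℂ} (hL : IsTwist P σ h L)

include D

theorem oddPart_card_odd : Odd (oddPart σ h).card := by
  obtain ⟨h1, hmul, hinv, -, -, -, -⟩ := D.oddPart_spec
  let U : Subgroup G :=
    { carrier := {z | z ∈ oddPart σ h}
      one_mem' := h1
      mul_mem' := fun {a b} ha hb => hmul a ha b hb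
      inv_mem' := fun {a} ha => hinv a ha }
  have e : Nat.card U = (oddPart σ h).card := Nat.card_eq_finsetCard _
  rw [← e, ← Nat.not_even_iff_odd]
  intro hev
  obtain ⟨y, hy⟩ := exists_prime_orderOf_dvd_card' 2 (even_iff_two_dvd.1 hev)
  obtain ⟨c, hc⟩ := (mem_oddPart.1 y.2).2
  rw [← Subgroup.orderOf_coe] at hy
  omega

theorem index_centralizer_odd : Odd (Subgroup.centralizer ({σ ^ h} : Set G)).index := by
  rw [← Nat.not_even_iff_odd, even_iff_two_dvd]
  exact fun hd => P.not_dvd_index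
    (hd.trans (Subgroup.index_dvd_of_le D.le_centralizer_central))

open Classical in
omit D in
/-- The function of a twist on the section, before induction. -/
noncomputable def sectionFn (σ : G) (h : ℕ) (L : G → ℂ) :
    cJ σ h → ℂ :=
  fun z => if σ ^ h * (z : G) ∈ oddPart σ h then conj (L (σ ^ h * z)) else 0

include hL

theorem indFun_sectionFn (g : G) :
    (∀ y ∈ oddPart σ h, IsConj (σ ^ h * y) g →
      indFun (cJ σ h) (sectionFn σ h L) g = conj (L y)) ∧
    ((∀ y ∈ oddPart σ h, ¬IsConj (σ ^ h * y) g) →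
      indFun (cJ σ h) (sectionFn σ h L) g = 0) := by
  classical
  obtain ⟨hJ2, hJ1, -⟩ := D.central_involution
  obtain ⟨-, -, -, hconj, -, -, -⟩ := D.oddPart_spec
  have hmem : ∀ z : G, z ∈ (cJ σ h) ↔ Commute z (σ ^ h) := fun z =>
    Subgroup.mem_centralizer_singleton_iff
  refine ⟨fun y hy hc => ?_, fun hno => ?_⟩
  · obtain ⟨z, hz⟩ := isConj_iff.1 hc
    obtain ⟨F, hF⟩ : ∃ F : G → ℂ, F = fun x => extendByZero (cJ σ h) (sectionFn σ h L) (x⁻¹ * g * x) :=
      ⟨_, rfl⟩
    have hval : ∀ x, F x = if x⁻¹ * z ∈ (cJ σ h) then conj (L y) else 0 := by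
      intro x
      have e : x⁻¹ * g * x = x⁻¹ * z * (σ ^ h * y) * (x⁻¹ * z)⁻¹ := by rw [← hz]; group
      split_ifs with hx
      · have hxc := (hmem _).1 hx
        have hy' := hconj _ hxc y hy
        have e' : x⁻¹ * g * x = σ ^ h * (x⁻¹ * z * y * (x⁻¹ * z)⁻¹) := by
          rw [e, ← mul_assoc _ (σ ^ h) y, hxc.eq]; group
        have hm : x⁻¹ * g * x ∈ (cJ σ h) :=
          (hmem _).2 (e' ▸ (Commute.refl _).mul_left (commute_of_mem hy'))
        simp only [hF, extendByZero_of_mem _ _ hm, sectionFn]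
        rw [e', ← mul_assoc, hJ2, one_mul, if_pos hy', hL.conjugate hxc (commute_of_mem hy)]
      · simp only [hF]
        by_cases hm : x⁻¹ * g * x ∈ (cJ σ h)
        · rw [extendByZero_of_mem _ _ hm, sectionFn, if_neg]
          intro hy'
          refine hx ((hmem _).2 (mem_center_of_conj D hy hy' (y' := σ ^ h * (x⁻¹ * g * x)) ?_))
          rw [← e, ← mul_assoc, hJ2, one_mul]
        · rw [extendByZero_of_notMem _ _ hm]
    rw [indFun, show ∑ x : G, extendByZero (cJ σ h) (sectionFn σ h L) (x⁻¹ * g * x) = ∑ x, F x by rw [hF],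
      Finset.sum_congr rfl fun x _ => hval x, ← Finset.sum_filter, Finset.sum_const, nsmul_eq_mul,
      ← mul_assoc]
    have hcard : (Finset.univ.filter fun x => x⁻¹ * z ∈ (cJ σ h)).card = Nat.card (cJ σ h) := by
      rw [← Nat.card_eq_finsetCard]
      exact Nat.card_congr
        { toFun := fun x => ⟨(x : G)⁻¹ * z, (Finset.mem_filter.1 x.2).2⟩
          invFun := fun c => ⟨z * (c : G)⁻¹, Finset.mem_filter.2 ⟨Finset.mem_univ _, by
            simpa [mul_assoc] using c.2⟩⟩
          left_inv := fun x => Subtype.ext (by show z * ((x : G)⁻¹ * z)⁻¹ = x; group)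
          right_inv := fun c => Subtype.ext (by show (z * (c : G)⁻¹)⁻¹ * z = c; group) }
    rw [hcard, inv_mul_cancel₀ Char.card_cast_ne_zero, one_mul]
  · rw [indFun, Finset.sum_eq_zero, mul_zero]
    intro x _
    by_cases hm : x⁻¹ * g * x ∈ (cJ σ h)
    · rw [extendByZero_of_mem _ _ hm, sectionFn, if_neg]
      intro hy'
      refine hno _ hy' (isConj_iff.2 ⟨x, ?_⟩)
      rw [← mul_assoc (σ ^ h), hJ2, one_mul]
      group
    · rw [extendByZero_of_notMem _ _ hm]

open Classical in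
theorem sum_indFun_sectionFn (χ : IrrCharacter G) :
    ∑ g : G, indFun (cJ σ h) (sectionFn σ h L) g * (χ : G → ℂ) g =
      ((cJ σ h).index : ℂ) *
        ∑ y ∈ oddPart σ h, conj (L y) * (χ : G → ℂ) (σ ^ h * y) := by
  obtain ⟨hJ2, -, -⟩ := D.central_involution
  have hχc : IsClassFunction G fun g => conj ((χ : G → ℂ) g) := fun g x => by
    show conj _ = conj _
    rw [χ.2.isClassFunction g x]
  have e := classInner_indFun (cJ σ h) (sectionFn σ h L) hχc
  simp only [classInner, Complex.conj_conj] at e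
  have hG : (Nat.card G : ℂ) ≠ 0 := Char.card_cast_ne_zero
  rw [inv_mul_eq_iff_eq_mul₀ hG] at e
  rw [e, ← mul_assoc, mul_comm (Nat.card G : ℂ), card_inv_mul_card]
  congr 1
  simp only [sectionFn]
  rw [← Finset.sum_subtype (Finset.univ.filter fun z => z ∈ (cJ σ h)) (fun x => by simp)
    (fun z : G => (if σ ^ h * z ∈ oddPart σ h then conj (L (σ ^ h * z)) else 0) * (χ : G → ℂ) z)]
  simp only [ite_mul, zero_mul]
  rw [← Finset.sum_filter]
  refine Finset.sum_bij' (fun z _ => σ ^ h * z) (fun y _ => σ ^ h * y) (fun z hz => ?_)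
    (fun y hy => ?_) (fun z _ => by rw [← mul_assoc, hJ2, one_mul])
    (fun y _ => by rw [← mul_assoc, hJ2, one_mul]) fun z _ => by rw [← mul_assoc (σ ^ h), hJ2, one_mul]
  · exact (Finset.mem_filter.1 hz).2
  · simp only [Finset.mem_filter, Finset.mem_univ, true_and, ← mul_assoc, hJ2, one_mul]
    exact ⟨Subgroup.mem_centralizer_singleton_iff.2
      ((Commute.refl _).mul_left (commute_of_mem hy)), hy⟩

open Classical in
/-- A character of the centralizer whose restriction to the odd part avoids the twist. -/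
theorem memLocalIdeal_of_avoid (hM : IsPModular 2 M)
    (hconjJ : ∀ a : G, a * a = 1 → a ≠ 1 → IsConj (σ ^ h) a)
    (η : IrrCharacter (cJ σ h))
    (hav : ∑ z : cJ σ h,
      (if (z : G) ∈ oddPart σ h then conj (L z) *
        (η : cJ σ h → ℂ) z else 0) = 0) :
    MemLocalIdeal M (vec (fun z : cJ σ h =>
      indFun (cJ σ h) (sectionFn σ h L) (z : G)) η) := by
  obtain ⟨hJ2, hJ1, -⟩ := D.central_involution
  obtain ⟨-, -, -, hconj, -, -, -⟩ := D.oddPart_spec
  obtain ⟨φ, hφ⟩ : ∃ φ : G → ℂ, φ = indFun (cJ σ h) (sectionFn σ h L) := ⟨_, rfl⟩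
  rw [← hφ]
  have hmem : ∀ z : G, z ∈ (cJ σ h) ↔ Commute z (σ ^ h) := fun z =>
    Subgroup.mem_centralizer_singleton_iff
  obtain ⟨J, hJ⟩ : ∃ J : (cJ σ h), (J : G) = σ ^ h :=
    ⟨⟨σ ^ h, (hmem _).2 (Commute.refl _)⟩, rfl⟩
  have hJc : J ∈ Subgroup.center (cJ σ h) := Subgroup.mem_center_iff.2 fun z => Subtype.ext (by
    rw [Subgroup.coe_mul, Subgroup.coe_mul, hJ]
    exact ((hmem _).1 z.2).eq)
  have hJJ : J * J = 1 := Subtype.ext (by rw [Subgroup.coe_mul, hJ, hJ2, OneMemClass.coe_one])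
  -- the other part of the support
  obtain ⟨S, hS⟩ : ∃ S : (cJ σ h) → Prop, S = fun z : (cJ σ h) =>
      (∃ y ∈ oddPart σ h, IsConj (σ ^ h * y) (z : G)) ∧ σ ^ h * (z : G) ∉ oddPart σ h := ⟨_, rfl⟩
  have hSJ : ∀ z : (cJ σ h), S z → S (J * z) := by
    intro z hz
    rw [hS] at hz ⊢
    obtain ⟨⟨y, hy, hc⟩, hout⟩ := hz
    obtain ⟨x, hx⟩ := isConj_iff.1 hc
    obtain ⟨t, ht⟩ : ∃ t, t = x * σ ^ h * x⁻¹ := ⟨_, rfl⟩
    obtain ⟨w, hw⟩ : ∃ w, w = x * y * x⁻¹ := ⟨_, rfl⟩
    have hzw : (z : G) = t * w := by rw [← hx, ht, hw]; group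
    have htw : Commute t w := by
      have := (commute_of_mem hy).symm.map (MulAut.conj x).toMonoidHom
      rw [ht, hw]
      exact this
    have hwo : Odd (orderOf w) := by
      rw [hw, ← MulAut.conj_apply, MulEquiv.orderOf_eq]
      exact (mem_oddPart.1 hy).2
    have htt : t * t = 1 := by
      rw [ht, show x * σ ^ h * x⁻¹ * (x * σ ^ h * x⁻¹) = x * (σ ^ h * σ ^ h) * x⁻¹ by group, hJ2,
        mul_one, mul_inv_cancel]
    have ht1 : t ≠ 1 := fun e => hJ1 (conj_eq_one_iff.1 (ht ▸ e))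
    have hzn : (z : G) ^ orderOf w = t := by
      obtain ⟨c, hc'⟩ := hwo
      rw [hzw, htw.mul_pow, pow_orderOf_eq_one, mul_one, hc', pow_succ, pow_mul, pow_two, htt,
        one_pow, one_mul]
    have hzJ := (hmem _).1 z.2
    have htJ : Commute t (σ ^ h) := hzn ▸ hzJ.pow_left _
    have hwJ : Commute w (σ ^ h) := by
      have e : w = t * (z : G) := by rw [hzw, ← mul_assoc, htt, one_mul]
      exact e ▸ htJ.mul_left hzJ
    have htne : t ≠ σ ^ h := fun e => hout (by
      rw [hzw, e, ← mul_assoc, hJ2, one_mul]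
      exact mem_oddPart.2 ⟨hwJ, hwo⟩)
    have hi2 : σ ^ h * t * (σ ^ h * t) = 1 := by
      rw [mul_assoc, ← mul_assoc t, htJ.eq, mul_assoc (σ ^ h) t t, htt, mul_one, hJ2]
    have hi1 : σ ^ h * t ≠ 1 := fun e => htne (by
      rw [← inv_eq_of_mul_eq_one_right e, inv_eq_of_mul_eq_one_right hJ2])
    obtain ⟨x', hx'⟩ := isConj_iff.1 (hconjJ _ hi2 hi1)
    have hyJ : Commute (x'⁻¹ * w * x') (σ ^ h) := by
      have hcw : Commute (σ ^ h * t) w := hwJ.symm.mul_left htw
      have e : σ ^ h = x'⁻¹ * (σ ^ h * t) * x' := by rw [← hx']; group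
      rw [e]
      have := (hcw.symm).map (MulAut.conj x'⁻¹).toMonoidHom
      simpa using this
    refine ⟨⟨x'⁻¹ * w * x', mem_oddPart.2 ⟨hyJ, ?_⟩, isConj_iff.2 ⟨x', ?_⟩⟩, ?_⟩
    · rw [show x'⁻¹ * w * x' = MulAut.conj x'⁻¹ w by simp, MulEquiv.orderOf_eq]
      exact hwo
    · rw [Subgroup.coe_mul, hJ, hzw, ← mul_assoc (σ ^ h) t w, ← hx']
      group
    · rw [Subgroup.coe_mul, hJ, ← mul_assoc, hJ2, one_mul]
      intro hzU
      obtain ⟨c, hc'⟩ := (mem_oddPart.1 hzU).2
      have h1 : orderOf t ∣ orderOf (z : G) := hzn ▸ orderOf_pow_dvd _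
      rw [orderOf_eq_prime (by rw [pow_two, htt]) ht1] at h1
      omega
  have hφS : ∀ z : (cJ σ h), S z → φ z = conj (L z) := by
    intro z hz
    rw [hS] at hz
    obtain ⟨⟨y, hy, hc⟩, -⟩ := hz
    rw [hφ, (indFun_sectionFn D hL (z : G)).1 y hy hc,
      hL.sections _ y ((hmem _).1 z.2) hy hc]
  obtain ⟨f, hf⟩ : ∃ f : (cJ σ h) → ℂ, f = fun z => if S z then φ z else 0 := ⟨_, rfl⟩
  have hfJ : ∀ z : (cJ σ h), f (J * z) = f z := by
    intro z
    simp only [hf]
    by_cases hz : S z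
    · rw [if_pos hz, if_pos (hSJ z hz), hφS z hz, hφS _ (hSJ z hz), Subgroup.coe_mul, hJ,
        hL.map_J_mul D ((hmem _).1 z.2)]
    · rw [if_neg hz, if_neg fun hz' => hz ?_]
      have := hSJ _ hz'
      rwa [← mul_assoc, hJJ, one_mul] at this
  obtain ⟨ε, hεo, hε⟩ := exists_central_scalar η hJc
  have hε2 : ε * ε = 1 := by
    have hd := orderOf_dvd_of_pow_eq_one (x := J) (n := 2) (by rw [pow_two, hJJ])
    obtain ⟨m, hm⟩ := hd
    rw [← pow_two, hm, pow_mul, hεo, one_pow]
  -- the split of the sum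
  have hsplit : ∑ z : (cJ σ h), φ z * (η : (cJ σ h) → ℂ) z = ∑ z : (cJ σ h), f z * (η : (cJ σ h) → ℂ) z := by
    have hrest : ∀ z : (cJ σ h), φ z * (η : (cJ σ h) → ℂ) z = f z * (η : (cJ σ h) → ℂ) z +
        (if σ ^ h * (z : G) ∈ oddPart σ h then conj (L (σ ^ h * (z : G))) * (η : (cJ σ h) → ℂ) z else 0) := by
      intro z
      simp only [hf]
      by_cases h0 : σ ^ h * (z : G) ∈ oddPart σ h
      · have hzc : IsConj (σ ^ h * (σ ^ h * (z : G))) (z : G) := by
          rw [← mul_assoc, hJ2, one_mul]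
        rw [if_neg (by rw [hS]; exact fun hz => hz.2 h0), if_pos h0, zero_mul, zero_add, hφ,
          (indFun_sectionFn D hL (z : G)).1 _ h0 hzc]
      · rw [if_neg h0, add_zero]
        by_cases hz : S z
        · rw [if_pos hz]
        · rw [if_neg hz, hφ, (indFun_sectionFn D hL (z : G)).2 fun y hy hc => hz
            (by rw [hS]; exact ⟨⟨y, hy, hc⟩, h0⟩)]
    rw [Finset.sum_congr rfl fun z _ => hrest z, Finset.sum_add_distrib, add_eq_left]
    rw [← Equiv.sum_comp (Equiv.mulLeft J)]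
    rw [Finset.sum_congr rfl (g := fun z : (cJ σ h) => ε *
      (if (z : G) ∈ oddPart σ h then conj (L z) * (η : (cJ σ h) → ℂ) z else 0)) fun z _ => ?_,
      ← Finset.mul_sum, hav, mul_zero]
    rw [Equiv.coe_mulLeft, Subgroup.coe_mul, hJ, ← mul_assoc, hJ2, one_mul, hε z]
    split_ifs <;> ring
  rw [vec, hsplit]
  by_cases hε1 : ε = 1
  · -- the quotient by the involution
    haveI hN : (Subgroup.zpowers J).Normal := ⟨fun n hn g => by
      have hc : n ∈ Subgroup.center (cJ σ h) := Subgroup.zpowers_le.2 hJc hn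
      rwa [Subgroup.mem_center_iff.1 hc g, mul_inv_cancel_right]⟩
    have hNmem : ∀ n ∈ Subgroup.zpowers J, n = 1 ∨ n = J := by
      intro n hn
      obtain ⟨k, hk⟩ := (IsOfFinOrder.mem_powers_iff_mem_zpowers (isOfFinOrder_of_finite J)).2 hn
      rw [← hk]
      obtain ⟨m, rfl | rfl⟩ := Nat.even_or_odd' k
      · left; simp [pow_mul, pow_two, hJJ]
      · right; simp [pow_succ, pow_mul, pow_two, hJJ]
    have hηJ : ∀ z : (cJ σ h), (η : (cJ σ h) → ℂ) (J * z) = (η : (cJ σ h) → ℂ) z := fun z => by rw [hε z, hε1, one_mul]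
    obtain ⟨η', hη', hηη⟩ := Char.exists_deflate_irr (Subgroup.zpowers J) η.2 fun n hn => by
      rcases hNmem n hn with rfl | rfl
      · rfl
      · simpa using hηJ 1
    obtain ⟨f', hf'⟩ : ∃ f' : (cJ σ h) ⧸ Subgroup.zpowers J → ℂ, f' = fun q => f q.out := ⟨_, rfl⟩
    have hff : ∀ z : (cJ σ h), f' (z : (cJ σ h) ⧸ Subgroup.zpowers J) = f z := by
      intro z
      obtain ⟨n, hn⟩ := QuotientGroup.mk_out_eq_mul (Subgroup.zpowers J) z
      rw [hf']
      show f _ = _
      rw [hn]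
      rcases hNmem _ n.2 with e | e <;> rw [e]
      · rw [mul_one]
      · rw [Subgroup.mem_center_iff.1 hJc z, hfJ]
    have hfc : IsClassFunction (cJ σ h) f := by
      intro z x
      have hSc : ∀ a b : (cJ σ h), S a → S (b * a * b⁻¹) := by
        intro a b ha
        rw [hS] at ha ⊢
        obtain ⟨⟨y, hy, hc⟩, hout⟩ := ha
        have hb := (hmem _).1 b.2
        refine ⟨⟨y, hy, hc.trans (isConj_iff.2 ⟨b, by push_cast; rfl⟩)⟩, fun hm => hout ?_⟩
        have := hconj _ hb.inv_left _ hm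
        rwa [Subgroup.coe_mul, Subgroup.coe_mul, InvMemClass.coe_inv, inv_inv,
          show (b : G)⁻¹ * (σ ^ h * ((b : G) * (a : G) * (b : G)⁻¹)) * (b : G) =
            ((b : G)⁻¹ * σ ^ h * (b : G)) * (a : G) by group, mul_assoc (b : G)⁻¹, ← hb.eq,
          inv_mul_cancel_left] at this
      simp only [hf]
      by_cases hz : S z
      · rw [if_pos hz, if_pos (hSc z x hz), hφ]
        push_cast
        exact isClassFunction_indFun (cJ σ h) (sectionFn σ h L) (z : G) (x : G)
      · rw [if_neg hz, if_neg fun hz' => hz ?_]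
        have := hSc _ x⁻¹ hz'
        rwa [inv_inv, show x⁻¹ * (x * z * x⁻¹) * x = z by group] at this
    have hfi : ∀ z : (cJ σ h), IsIntegral ℤ (f z) := fun z => by
      simp only [hf]
      split_ifs with hz
      · rw [hφS z hz]; exact (hL.isIntegral ((hmem _).1 z.2)).map (starRingEnd ℂ).toIntAlgHom
      · exact isIntegral_zero
    have hv := isIntegral_vec (f := f') (fun q r => by
        obtain ⟨a, rfl⟩ := QuotientGroup.mk_surjective q
        obtain ⟨b, rfl⟩ := QuotientGroup.mk_surjective r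
        rw [← QuotientGroup.mk_inv, ← QuotientGroup.mk_mul, ← QuotientGroup.mk_mul, hff, hff, hfc])
      (fun q => by rw [hf']; exact hfi _) ⟨η', hη'⟩
    have hcard : Nat.card (Subgroup.zpowers J) = 2 := by
      rw [Nat.card_zpowers, orderOf_eq_prime (by rw [pow_two, hJJ]) fun e => hJ1 (by
        rw [← hJ, e, OneMemClass.coe_one])]
    have e2 : ∑ z : (cJ σ h), f z * (η : (cJ σ h) → ℂ) z =
        2 * ∑ q : (cJ σ h) ⧸ Subgroup.zpowers J, f' q * η' q := by
      rw [← Finset.sum_fiberwise Finset.univ (fun z : (cJ σ h) => (z : (cJ σ h) ⧸ Subgroup.zpowers J)),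
        Finset.mul_sum]
      refine Finset.sum_congr rfl fun q _ => ?_
      rw [Finset.sum_congr rfl (g := fun _ => f' q * η' q) fun z hz => by
        rw [← (Finset.mem_filter.1 hz).2, hff, hηη], Finset.sum_const, nsmul_eq_mul]
      congr 1
      obtain ⟨a, rfl⟩ := QuotientGroup.mk_surjective q
      have : (Finset.univ.filter fun z : (cJ σ h) =>
          (z : (cJ σ h) ⧸ Subgroup.zpowers J) = (a : (cJ σ h) ⧸ Subgroup.zpowers J)).card = 2 := by
        rw [← hcard, ← Nat.card_eq_finsetCard]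
        exact Nat.card_congr
          { toFun := fun z => ⟨a⁻¹ * z, QuotientGroup.eq.1 (Finset.mem_filter.1 z.2).2.symm⟩
            invFun := fun n => ⟨a * n, Finset.mem_filter.2 ⟨Finset.mem_univ _,
              (QuotientGroup.eq.2 (by simp)).symm⟩⟩
            left_inv := fun z => Subtype.ext (mul_inv_cancel_left a (z : (cJ σ h)))
            right_inv := fun n => Subtype.ext (inv_mul_cancel_left a (n : (cJ σ h))) }
      rw [this, Nat.cast_ofNat]
    have h2 : MemLocalIdeal M ((2 : ℕ) : ℂ) := (memLocalIdeal_natCast_iff hM 2).2 dvd_rfl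
    rw [e2, ← hηη 1, mul_div_assoc]
    rw [Nat.cast_ofNat] at h2
    exact memLocalIdeal_mul_right hM h2 (isIntegral_mem_locRing hM hv)
  · have hεm : ε = -1 := by
      have : (ε - 1) * (ε + 1) = 0 := by linear_combination hε2
      rcases mul_eq_zero.1 this with e | e
      · exact absurd (sub_eq_zero.1 e) hε1
      · exact eq_neg_of_add_eq_zero_left e
    have h0 : ∑ z : (cJ σ h), f z * (η : (cJ σ h) → ℂ) z = 0 := by
      have e := Equiv.sum_comp (Equiv.mulLeft J) fun z : (cJ σ h) => f z * (η : (cJ σ h) → ℂ) z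
      simp only [Equiv.coe_mulLeft, hfJ, hε, hεm] at e
      rw [Finset.sum_congr rfl (g := fun z : (cJ σ h) => -(f z * (η : (cJ σ h) → ℂ) z)) fun z _ => by ring,
        Finset.sum_neg_distrib] at e
      linear_combination (-1 / 2 : ℂ) * e
    rw [h0, zero_div]
    exact memLocalIdeal_zero hM

open Classical in
/-- A character of the centralizer meeting the twist restricts as a multiple of it. -/
theorem eq_mul_of_not_avoid (η : IrrCharacter (cJ σ h))
    (hav : ∑ z : cJ σ h,
      (if (z : G) ∈ oddPart σ h then conj (L z) *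
        (η : cJ σ h → ℂ) z else 0) ≠ 0)
    {z : cJ σ h} (hz : (z : G) ∈ oddPart σ h) :
    (η : cJ σ h → ℂ) z =
      (η : cJ σ h → ℂ) 1 * L z := by
  obtain ⟨h1, hmul, hinv, hconj, -, -, -⟩ := D.oddPart_spec
  have hcm : ∀ c : (cJ σ h), Commute (c : G) (σ ^ h) := fun c =>
    Subgroup.mem_centralizer_singleton_iff.1 c.2
  let U : Subgroup (cJ σ h) :=
    { carrier := {c | (c : G) ∈ oddPart σ h}
      one_mem' := h1
      mul_mem' := fun {a b} ha hb => hmul _ ha _ hb
      inv_mem' := fun {a} ha => hinv _ ha }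
  have hUmem : ∀ c : (cJ σ h), c ∈ U ↔ (c : G) ∈ oddPart σ h := fun c => Iff.rfl
  haveI hUn : U.Normal := ⟨fun n hn g => hconj _ (hcm g) _ hn⟩
  obtain ⟨θ, hθ⟩ : ∃ θ : U →* ℂˣ, ∀ c : U, (θ c : ℂ) = L ((c : (cJ σ h)) : G) :=
    ⟨MonoidHom.mk' (fun c => Units.mk0 (L ((c : (cJ σ h)) : G)) (hL.ne_zero (hcm c)))
      fun a b => Units.ext (hL.mul _ _ (hcm a) (hcm b)), fun c => rfl⟩
  have horb : ∀ φ ∈ Char.twistOrbit U (fun c => (θ c : ℂ)), φ = fun c => (θ c : ℂ) := by
    intro φ hφ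
    obtain ⟨g, rfl⟩ := (Char.mem_twistOrbit U).1 hφ
    funext c
    rw [Char.conjTwist_apply, hθ, hθ]
    exact hL.conjugate (hcm g) (hcm c)
  have hne : classInner (fun c : U => (η : (cJ σ h) → ℂ) c) (fun c => (θ c : ℂ)) ≠ 0 := by
    intro e
    refine hav ?_
    rw [classInner, mul_eq_zero, inv_eq_zero] at e
    rw [← Finset.sum_filter, Finset.sum_subtype (p := fun c => c ∈ U) (F := (inferInstance : Fintype U)) _ (fun c => by simp [hUmem]),
      ← e.resolve_left Char.card_cast_ne_zero]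
    exact Finset.sum_congr (by ext; simp) fun c _ => by rw [hθ, mul_comm]
  have hres := Char.clifford_res U η.2 (Char.isIrrCharacter_linear θ) hne
  rw [show Char.twistOrbit U (fun c => (θ c : ℂ)) = {fun c => (θ c : ℂ)} from
    Finset.eq_singleton_iff_unique_mem.2 ⟨Char.self_mem_twistOrbit U _, horb⟩,
    Finset.sum_singleton] at hres
  have e1 := congrFun hres 1
  have ez := congrFun hres ⟨z, hz⟩
  simp only [Pi.smul_apply, smul_eq_mul, hθ, OneMemClass.coe_one, hL.map_one, mul_one] at e1 ez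
  rw [ez, e1]

/-- The values on the section. -/
theorem section_values (hM : IsPModular 2 M)
    (hconjJ : ∀ a : G, a * a = 1 → a ≠ 1 → IsConj (σ ^ h) a) (χ : IrrCharacter G) (N : ℤ)
    (hN : ∑ y ∈ oddPart σ h, conj (L y) * (χ : G → ℂ) (σ ^ h * y) =
      ((oddPart σ h).card : ℂ) * N)
    (hcase : Odd N ∨ ((N = 2 ∨ N = -2) ∧ Even (charDegree (χ : G → ℂ)))) :
    (Odd N → Odd (charDegree (χ : G → ℂ))) ∧
      ∀ y ∈ oddPart σ h, (χ : G → ℂ) (σ ^ h * y) = L y * N := by
  classical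
  obtain ⟨hJ2, hJ1, -⟩ := D.central_involution
  obtain ⟨d, hd⟩ : ∃ d, d = charDegree (χ : G → ℂ) := ⟨_, rfl⟩
  have hd0 : d ≠ 0 := hd ▸ (charDegree_pos χ).ne'
  obtain ⟨φ, hφ⟩ : ∃ φ : G → ℂ, φ = indFun (cJ σ h) (sectionFn σ h L) := ⟨_, rfl⟩
  have hφc : IsClassFunction G φ := hφ ▸ isClassFunction_indFun _ _
  have hφi : ∀ g, IsIntegral ℤ (φ g) := fun g => by
    by_cases e : ∃ y ∈ oddPart σ h, IsConj (σ ^ h * y) g
    · obtain ⟨y, hy, hc⟩ := e
      rw [hφ, (indFun_sectionFn D hL g).1 y hy hc]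
      exact (hL.isIntegral (commute_of_mem hy)).map (starRingEnd ℂ).toIntAlgHom
    · rw [hφ, (indFun_sectionFn D hL g).2 fun y hy hc => e ⟨y, hy, hc⟩]
      exact isIntegral_zero
  obtain ⟨q, hq⟩ : ∃ q : ℤ, q = ((cJ σ h).index : ℤ) * ((oddPart σ h).card : ℤ) * N := ⟨_, rfl⟩
  have hvec : vec φ χ = (q : ℂ) / (d : ℂ) := by
    rw [vec, hφ, sum_indFun_sectionFn D hL, hN, Block.apply_one_eq_charDegree, ← hd, hq]
    push_cast
    rw [mul_assoc]
  have hdvd : (d : ℤ) ∣ q := by
    have hint := isIntegral_vec hφc hφi χ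
    rw [hvec] at hint
    have h' : IsIntegral ℤ (((q : ℚ) / (d : ℚ) : ℚ) : ℂ) := by push_cast; exact hint
    obtain ⟨m, hm⟩ := Char.exists_int_of_isIntegral_rat h'
    rw [div_eq_iff (Nat.cast_ne_zero.2 hd0)] at hm
    exact ⟨m, by rw [mul_comm]; exact_mod_cast hm⟩
  obtain ⟨m, hm⟩ := hdvd
  have hodd2 : Odd (((cJ σ h).index : ℤ) * ((oddPart σ h).card : ℤ)) :=
    (Int.odd_coe_nat _).2 (index_centralizer_odd D) |>.mul
      ((Int.odd_coe_nat _).2 (oddPart_card_odd D))
  have hq2 : Odd N → Odd (d : ℤ) ∧ Odd m := fun hNo => by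
    have : Odd q := hq ▸ hodd2.mul hNo
    rw [hm] at this
    exact Int.odd_mul.1 this
  have hmodd : Odd m := by
    rcases hcase with hNo | ⟨hN2, hev⟩
    · exact (hq2 hNo).2
    · rw [← hd] at hev
      obtain ⟨e, he⟩ := hev
      obtain ⟨a, ha⟩ := hodd2
      rw [← Int.not_even_iff_odd]
      rintro ⟨b, hb⟩
      rw [hq, ha, hb, he] at hm
      push_cast at hm
      rcases hN2 with hN2 | hN2 <;> rw [hN2] at hm <;>
        · ring_nf at hm
          omega
  refine ⟨fun hNo => by rw [← hd]; exact (Int.odd_coe_nat d).1 (hq2 hNo).1, ?_⟩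
  have hunit : ¬MemLocalIdeal M (vec φ χ) := by
    rw [hvec, show ((q : ℤ) : ℂ) / (d : ℂ) = (m : ℂ) by
      rw [hm]; push_cast; rw [mul_div_cancel_left₀ _ (Nat.cast_ne_zero.2 hd0)]]
    intro hmem
    have h2 : MemLocalIdeal M ((m.natAbs : ℕ) : ℂ) := by
      rcases Int.natAbs_eq m with e | e
      · rw [e] at hmem; simpa using hmem
      · rw [e] at hmem
        simpa using memLocalIdeal_neg hM hmem
    rw [memLocalIdeal_natCast_iff hM] at h2
    obtain ⟨c, hc⟩ := Int.natAbs_odd.2 hmodd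
    omega
  -- the blocks of the centralizer
  have hu : ∃ k : ℕ, orderOf (σ ^ h) = 2 ^ k :=
    ⟨1, by rw [orderOf_eq_prime (by rw [pow_two, hJ2]) hJ1, pow_one]⟩
  have hHu : ∀ z : (cJ σ h), Commute (σ ^ h) (z : G) := fun z =>
    (Subgroup.mem_centralizer_singleton_iff.1 z.2).symm
  have hB := isPBlock_blockOf (M := M) χ
  have hsec : ∀ z : (cJ σ h), (z : G) ∈ oddPart σ h → (χ : G → ℂ) (σ ^ h * (z : G)) =
      L z * ∑ η ∈ (indSet M (cJ σ h) (blockOf M (χ : G → ℂ))).toFinset,
        classInner (secFn (σ ^ h) (cJ σ h) (χ : G → ℂ)) (η : (cJ σ h) → ℂ) * (η : (cJ σ h) → ℂ) 1 := by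
    intro z hz
    have hy : IsPRegular 2 z := by
      rw [IsPRegular, ← Subgroup.orderOf_coe]
      obtain ⟨c, hc⟩ := (mem_oddPart.1 hz).2
      omega
    have e := blockPart_indSet hM hu hHu le_rfl hB χ hy
    rw [if_pos (self_mem_blockOf hM χ)] at e
    rw [← e, blockPart, finsum_mem_eq_toFinset_sum, Finset.mul_sum]
    refine Finset.sum_congr rfl fun η hη => ?_
    rw [eq_mul_of_not_avoid D hL η (fun hav => hunit ?_) hz]
    · ring
    · have h1 := memLocalIdeal_of_avoid D hL hM hconjJ η hav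
      have h2 := memLocalIdeal_vec_sub hM
        (Set.mem_toFinset.1 hη : η ∈ indSet M (cJ σ h) (blockOf M (χ : G → ℂ)))
        (self_mem_blockOf hM η)
        (self_mem_blockOf hM χ) hφc hφi
      rw [hφ] at h2 ⊢
      have := memLocalIdeal_sub hM h1 h2
      rwa [sub_sub_cancel] at this
  obtain ⟨c₀, hc₀⟩ : ∃ c₀, c₀ = ∑ η ∈ (indSet M (cJ σ h) (blockOf M (χ : G → ℂ))).toFinset,
        classInner (secFn (σ ^ h) (cJ σ h) (χ : G → ℂ)) (η : (cJ σ h) → ℂ) * (η : (cJ σ h) → ℂ) 1 := ⟨_, rfl⟩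
  rw [← hc₀] at hsec
  have hall : ∀ y ∈ oddPart σ h, (χ : G → ℂ) (σ ^ h * y) = L y * c₀ := fun y hy =>
    hsec ⟨y, Subgroup.mem_centralizer_singleton_iff.2 (commute_of_mem hy)⟩ hy
  have hc₀N : c₀ = N := by
    rw [Finset.sum_congr rfl (g := fun _ => c₀) fun y hy => by
      rw [hall y hy, ← mul_assoc, mul_comm (conj (L y)), hL.mul_conj_self (commute_of_mem hy),
        one_mul], Finset.sum_const, nsmul_eq_mul] at hN
    exact mul_left_cancel₀ (Nat.cast_ne_zero.2 (Finset.card_ne_zero.2 ⟨1, D.oddPart_spec.1⟩)) hN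
  intro y hy
  rw [hall y hy, hc₀N]

end Cfsg.Lib.GW.Twist
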