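import Cfsg.Agent.Lib.GW.Twist.Basic
import Cfsg.Agent.Lib.Block.DihedralShape
import Cfsg.Agent.Lib.Char.Formulas

/-!
# The weights of the induced differences of a twist

For a twist `L` and the subgroup `U ⟨σ⟩` of the centralizer of the involution, the functions
`L (1 - ψ ^ j)` induce to generalized characters with the Gram matrix of the rotations.
-/

set_option autoImplicit false
set_option linter.unusedSectionVars false
set_option maxHeartbeats 1600000

namespace Cfsg.Lib.GW.Twist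

open Cfsg Cfsg.Lib.Block Cfsg.Lib.Char
open Cfsg.Lib.Block.DihSylow (oddPart mem_oddPart)
open scoped ComplexConjugate

universe u

noncomputable local instance (priority := high) fintypeSubgroupTwistInduced {A : Type u}
    [Group A] [Fintype A] (H : Subgroup A) : Fintype H := Fintype.ofFinite H

variable {G : Type u} [Group G] [Fintype G] [Fact (Nat.Prime 2)] {P : Sylow 2 G} {σ τ : G} {h : ℕ}

open Classical in
/-- The exponent of the rotation part. -/
noncomputable def rotExp (σ : G) (h : ℕ) (z : G) : ℕ :=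
  if e : ∃ l, z * (σ ^ l)⁻¹ ∈ oddPart σ h then Nat.find e else 0

/-- The character of the rotation part. -/
noncomputable def psi (σ : G) (h : ℕ) (ζ : ℂ) (z : G) : ℂ := ζ ^ rotExp σ h z

variable (D : DihSylow P σ τ h)

/-- The subgroup `U ⟨σ⟩`. -/
noncomputable def rotSub : Subgroup G where
  carrier := {z | ∃ y ∈ oddPart σ h, ∃ l : ℕ, z = y * σ ^ l}
  one_mem' := ⟨1, D.oddPart_spec.1, 0, by rw [pow_zero, one_mul]⟩
  mul_mem' := by
    rintro _ _ ⟨y, hy, l, rfl⟩ ⟨y', hy', l', rfl⟩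
    obtain ⟨-, hmul, -, hconj, -, -, -⟩ := D.oddPart_spec
    refine ⟨y * (σ ^ l * y' * (σ ^ l)⁻¹), hmul _ hy _ (hconj _ ((Commute.refl σ).pow_pow l h) _ hy'),
      l + l', ?_⟩
    rw [pow_add]
    group
  inv_mem' := by
    rintro _ ⟨y, hy, l, rfl⟩
    obtain ⟨-, -, hinv, hconj, -, -, -⟩ := D.oddPart_spec
    obtain ⟨k, hk⟩ := (IsOfFinOrder.mem_powers_iff_mem_zpowers (isOfFinOrder_of_finite σ)).2
      (inv_mem (D.mem_pow l))
    have hk' : σ ^ k = (σ ^ l)⁻¹ := hk
    refine ⟨(σ ^ l)⁻¹ * y⁻¹ * (σ ^ l)⁻¹⁻¹,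
      hconj _ (((Commute.refl σ).pow_pow l h).inv_left) _ (hinv _ hy), k, ?_⟩
    rw [hk']
    group

theorem mem_rotSub {z : G} : z ∈ rotSub D ↔ ∃ y ∈ oddPart σ h, ∃ l : ℕ, z = y * σ ^ l := Iff.rfl

include D

theorem commute_rotSub {z : G} (hz : z ∈ rotSub D) : Commute z (σ ^ h) := by
  obtain ⟨y, hy, l, rfl⟩ := (mem_rotSub D).1 hz
  exact (commute_of_mem hy).mul_left ((Commute.refl σ).pow_pow l h)

theorem psi_eq {ζ : ℂ} (hζ : IsPrimitiveRoot ζ (2 * h)) {y : G} (hy : y ∈ oddPart σ h) (l : ℕ) :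
    psi σ h ζ (y * σ ^ l) = ζ ^ l := by
  classical
  obtain ⟨-, hmul, hinv, -, -, huniq, -⟩ := D.oddPart_spec
  have e : ∃ l', y * σ ^ l * (σ ^ l')⁻¹ ∈ oddPart σ h := ⟨l, by rwa [mul_inv_cancel_right]⟩
  have hs := Nat.find_spec e
  have h1 := hmul _ (hinv _ hy) _ hs
  rw [← mul_assoc, ← mul_assoc, inv_mul_cancel, one_mul] at h1
  have h2 := huniq _ (pow_mem D.memσ l) _ (pow_mem D.memσ _) h1
  rw [pow_eq_pow_iff_modEq, D.orderσ] at h2
  rw [psi, rotExp, dif_pos e, ← pow_mod_orderOf, ← hζ.eq_orderOf,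
    ← (h2 : l % (2 * h) = _ % (2 * h)), hζ.eq_orderOf, pow_mod_orderOf]

theorem psi_mul {ζ : ℂ} (hζ : IsPrimitiveRoot ζ (2 * h)) {z z' : G} (hz : z ∈ rotSub D)
    (hz' : z' ∈ rotSub D) : psi σ h ζ (z * z') = psi σ h ζ z * psi σ h ζ z' := by
  obtain ⟨-, hmul, -, hconj, -, -, -⟩ := D.oddPart_spec
  obtain ⟨y, hy, l, rfl⟩ := (mem_rotSub D).1 hz
  obtain ⟨y', hy', l', rfl⟩ := (mem_rotSub D).1 hz'
  rw [psi_eq D hζ hy, psi_eq D hζ hy', show y * σ ^ l * (y' * σ ^ l') =
    y * (σ ^ l * y' * (σ ^ l)⁻¹) * (σ ^ (l + l')) by rw [pow_add]; group,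
    psi_eq D hζ (hmul _ hy _ (hconj _ ((Commute.refl σ).pow_pow l h) _ hy')), pow_add]

theorem conj_tau_rotSub {ζ : ℂ} (hζ : IsPrimitiveRoot ζ (2 * h)) {z : G} (hz : z ∈ rotSub D) :
    τ * z * τ⁻¹ ∈ rotSub D ∧ psi σ h ζ (τ * z * τ⁻¹) = (psi σ h ζ z)⁻¹ := by
  obtain ⟨-, -, -, hconj, -, -, -⟩ := D.oddPart_spec
  obtain ⟨y, hy, l, rfl⟩ := (mem_rotSub D).1 hz
  have hy' := hconj τ (D.central_involution.2.2 τ D.memτ) y hy
  have e : τ * (y * σ ^ l) * τ⁻¹ = τ * y * τ⁻¹ * (σ ^ l)⁻¹ := by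
    rw [← D.τ_conj (D.mem_pow l)]
    group
  obtain ⟨k, hk⟩ := (IsOfFinOrder.mem_powers_iff_mem_zpowers (isOfFinOrder_of_finite σ)).2
    (inv_mem (D.mem_pow l))
  have hk' : σ ^ k = (σ ^ l)⁻¹ := hk
  rw [e, ← hk', psi_eq D hζ hy', psi_eq D hζ hy]
  refine ⟨⟨_, hy', k, rfl⟩, eq_inv_of_mul_eq_one_left ?_⟩
  have h1 : σ ^ (k + l) = 1 := by rw [pow_add, hk', inv_mul_cancel]
  rw [← orderOf_dvd_iff_pow_eq_one, D.orderσ] at h1
  rw [← pow_add, hζ.pow_eq_one_iff_dvd]
  exact h1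

open Classical in
/-- Sums over `U ⟨σ⟩`. -/
theorem sum_rotSub (f : G → ℂ) :
    ∑ g : rotSub D, f g = ∑ y ∈ oddPart σ h, ∑ l ∈ Finset.range (2 * h), f (y * σ ^ l) := by
  obtain ⟨-, hmul, hinv, -, -, huniq, -⟩ := D.oddPart_spec
  rw [← Finset.sum_product']
  symm
  refine Finset.sum_bij (fun q hq => ⟨q.1 * σ ^ q.2,
    (mem_rotSub D).2 ⟨q.1, (Finset.mem_product.1 hq).1, q.2, rfl⟩⟩) (fun _ _ => Finset.mem_univ _)
    (fun q hq q' hq' e => ?_) (fun g _ => ?_) (fun _ _ => rfl)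
  · obtain ⟨hq1, hq2⟩ := Finset.mem_product.1 hq
    obtain ⟨hq1', hq2'⟩ := Finset.mem_product.1 hq'
    have e' : q.1 * σ ^ q.2 = q'.1 * σ ^ q'.2 := congrArg Subtype.val e
    have h1 := hmul _ (hinv _ hq1) _ hq1'
    rw [show q.1⁻¹ * q'.1 = σ ^ q.2 * (σ ^ q'.2)⁻¹ by
      rw [eq_mul_inv_iff_mul_eq, mul_assoc, ← e', inv_mul_cancel_left]] at h1
    have h2 := huniq _ (pow_mem D.memσ _) _ (pow_mem D.memσ _) h1
    have h3 := pow_injOn_Iio_orderOf (Set.mem_Iio.2 (by rw [D.orderσ]; exact Finset.mem_range.1 hq2))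
      (Set.mem_Iio.2 (by rw [D.orderσ]; exact Finset.mem_range.1 hq2')) h2
    rw [h3] at e'
    exact Prod.ext (mul_right_cancel e') h3
  · obtain ⟨y, hy, l, hl⟩ := (mem_rotSub D).1 g.2
    refine ⟨(y, l % orderOf σ), Finset.mem_product.2 ⟨hy, Finset.mem_range.2 ?_⟩, Subtype.ext ?_⟩
    · rw [← D.orderσ]
      exact Nat.mod_lt _ (orderOf_pos σ)
    · show y * σ ^ (l % orderOf σ) = (g : G)
      rw [hl, pow_mod_orderOf]

theorem card_rotSub : (Nat.card (rotSub D) : ℂ) = (2 * h : ℕ) * ((oddPart σ h).card : ℂ) := by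
  have e := sum_rotSub D fun _ => (1 : ℂ)
  simp only [Finset.sum_const, Finset.card_univ, Finset.card_range, nsmul_eq_mul, mul_one] at e
  rw [Nat.card_eq_fintype_card, e, mul_comm]

/-- Elements conjugating a singular element of `U ⟨σ⟩` into it centralize the involution. -/
theorem commute_of_conj {g x : G} (hg : g ∈ rotSub D) (hx : x * g * x⁻¹ ∈ rotSub D)
    (hev : Even (orderOf g)) : Commute x (σ ^ h) := by
  obtain ⟨-, hmul, hinv, hconj, -, huniq, -⟩ := D.oddPart_spec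
  obtain ⟨hJ2, hJ1, -⟩ := D.central_involution
  have huniqJ : ∀ z ∈ rotSub D, z * z = 1 → z ≠ 1 → z = σ ^ h := by
    intro z hz h2 h1
    obtain ⟨y, hy, l, rfl⟩ := (mem_rotSub D).1 hz
    have hc : Commute (σ ^ l) (σ ^ h) := (Commute.refl σ).pow_pow l h
    have hmem : (1 : G) * (σ ^ l * σ ^ l)⁻¹ ∈ oddPart σ h := by
      rw [← h2, show y * σ ^ l * (y * σ ^ l) * (σ ^ l * σ ^ l)⁻¹ =
        y * (σ ^ l * y * (σ ^ l)⁻¹) by group]
      exact hmul _ hy _ (hconj _ hc _ hy)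
    have hl2 := (huniq _ (one_mem _) _ (mul_mem (pow_mem D.memσ l) (pow_mem D.memσ l)) hmem).symm
    have hyodd := (mem_oddPart.1 hy).2
    rcases D.eq_central_of_sq (D.mem_pow l) hl2 with e | e
    · rw [e, mul_one] at h2 h1
      obtain ⟨c, hc'⟩ := hyodd
      have h3 : orderOf y = 2 := orderOf_eq_prime (by rw [pow_two, h2]) h1
      omega
    · rw [e] at h2 h1 ⊢
      have h3 : y * y = 1 := by
        rw [← h2, show y * σ ^ h * (y * σ ^ h) = y * y * (σ ^ h * σ ^ h) by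
          rw [mul_assoc y, ← mul_assoc (σ ^ h), ← (commute_of_mem hy).eq]; group, hJ2, mul_one]
      by_cases hy1 : y = 1
      · rw [hy1, one_mul]
      · exfalso
        obtain ⟨c, hc'⟩ := hyodd
        have h4 : orderOf y = 2 := orderOf_eq_prime (by rw [pow_two, h3]) hy1
        omega
  obtain ⟨n, hn⟩ := hev
  have hg2 : g ^ n * g ^ n = 1 := by rw [← pow_add, ← hn, pow_orderOf_eq_one]
  have hg1 : g ^ n ≠ 1 := pow_ne_one_of_lt_orderOf (by have := orderOf_pos g; omega)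
    (by have := orderOf_pos g; omega)
  have e1 := huniqJ _ (pow_mem hg n) hg2 hg1
  have e2 := huniqJ _ (pow_mem hx n)
    (by rw [conj_pow, show x * g ^ n * x⁻¹ * (x * g ^ n * x⁻¹) = x * (g ^ n * g ^ n) * x⁻¹ by group,
      hg2, mul_one, mul_inv_cancel])
    (by rw [conj_pow]; exact fun e => hg1 (conj_eq_one_iff.1 e))
  rw [conj_pow, e1] at e2
  exact mul_inv_eq_iff_eq_mul.1 e2

theorem even_order_of_psi {ζ : ℂ} (hζ : IsPrimitiveRoot ζ (2 * h)) {g : G} (hg : g ∈ rotSub D)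
    (hne : psi σ h ζ g ≠ 1) : Even (orderOf g) := by
  by_contra hodd
  rw [Nat.not_even_iff_odd] at hodd
  refine hne ?_
  obtain ⟨y, hy, l, rfl⟩ := (mem_rotSub D).1 hg
  have hp : ∀ n, psi σ h ζ ((y * σ ^ l) ^ n) = (ζ ^ l) ^ n := by
    intro n
    induction n with
    | zero =>
      rw [pow_zero, pow_zero, show (1 : G) = 1 * σ ^ 0 by simp, psi_eq D hζ D.oddPart_spec.1,
        pow_zero]
    | succ n ih =>
      rw [pow_succ, psi_mul D hζ (pow_mem hg n) hg, ih, psi_eq D hζ hy, pow_succ]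
  have e := hp (orderOf (y * σ ^ l))
  rw [pow_orderOf_eq_one, show (1 : G) = 1 * σ ^ 0 by simp, psi_eq D hζ D.oddPart_spec.1,
    pow_zero] at e
  rw [psi_eq D hζ hy]
  refine orderOf_eq_one_iff.1 ?_
  obtain ⟨k, hk⟩ := D.exists_order (D.zpowers_le (D.mem_pow l))
  refine Nat.eq_one_of_dvd_coprimes (k := orderOf (ζ ^ l))
    ((Nat.coprime_two_right.2 hodd).pow_right k) (orderOf_dvd_of_pow_eq_one e.symm) ?_
  refine orderOf_dvd_of_pow_eq_one ?_
  have h1 : σ ^ (l * 2 ^ k) = 1 := by rw [pow_mul, ← hk, pow_orderOf_eq_one]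
  rw [← orderOf_dvd_iff_pow_eq_one, D.orderσ] at h1
  rw [← pow_mul, hζ.pow_eq_one_iff_dvd]
  exact h1

open Classical in
/-- The centralizer of the involution consists of two cosets. -/
theorem sum_centralizer (f : G → ℂ) (hf : ∀ x, ¬Commute x (σ ^ h) → f x = 0) :
    ∑ x : G, f x = (∑ g : rotSub D, f g) + ∑ g : rotSub D, f ((g : G) * τ) := by
  obtain ⟨-, hmul, -, -, hdec, -, -⟩ := D.oddPart_spec
  have hτσ : ∀ g : G, g ∈ rotSub D → g * τ ∉ rotSub D := by
    intro g hg hgτ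
    have hτ : τ ∈ rotSub D := by simpa using mul_mem (inv_mem hg) hgτ
    obtain ⟨y, hy, l, hl⟩ := (mem_rotSub D).1 hτ
    have := D.oddPart_spec.2.2.2.2.2.1 τ D.memτ (σ ^ l) (pow_mem D.memσ l)
      (by rw [hl, mul_inv_cancel_right]; exact hy)
    exact (D.reflection_iff.2 ⟨0, by have := D.two_le; omega, by simp⟩ :
      τ ∈ (P : Subgroup G) ∧ τ ∉ Subgroup.zpowers σ).2 (this ▸ D.mem_pow l)
  obtain ⟨T, hT⟩ : ∃ T : Finset G, T = Finset.univ.filter fun x => x ∈ rotSub D := ⟨_, rfl⟩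
  obtain ⟨T', hT'⟩ : ∃ T' : Finset G, T' = T.image fun x => x * τ := ⟨_, rfl⟩
  have hsub : ∀ F : G → ℂ, ∑ g : rotSub D, F g = ∑ x ∈ T, F x := fun F => by
    rw [hT]
    exact (Finset.sum_subtype _ (fun x => by simp) F).symm
  rw [hsub, hsub (fun x => f (x * τ)), ← Finset.sum_image (f := f) (fun a _ b _ e => mul_right_cancel e),
    ← hT', ← Finset.sum_union]
  · refine (Finset.sum_subset (Finset.subset_univ _) fun x _ hx => hf x fun hc => hx ?_).symm
    obtain ⟨p, hp, hyp⟩ := hdec x hc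
    rcases D.cover p hp with e | e
    · obtain ⟨l, hl⟩ := (IsOfFinOrder.mem_powers_iff_mem_zpowers (isOfFinOrder_of_finite σ)).2 e
      refine Finset.mem_union_left _ (hT ▸ Finset.mem_filter.2 ⟨Finset.mem_univ _, ?_⟩)
      exact ⟨_, hyp, l, by rw [show σ ^ l = p from hl, inv_mul_cancel_right]⟩
    · obtain ⟨l, hl⟩ := (IsOfFinOrder.mem_powers_iff_mem_zpowers (isOfFinOrder_of_finite σ)).2 e
      refine Finset.mem_union_right _ (hT' ▸ Finset.mem_image.2 ⟨x * τ, ?_, by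
        rw [mul_assoc, D.sqτ, mul_one]⟩)
      refine hT ▸ Finset.mem_filter.2 ⟨Finset.mem_univ _, ⟨_, hyp, l, ?_⟩⟩
      rw [show σ ^ l = p * τ from hl, ← mul_assoc, inv_mul_cancel_right]
  · rw [Finset.disjoint_left]
    intro x hx hx'
    rw [hT'] at hx'
    obtain ⟨g, hg, rfl⟩ := Finset.mem_image.1 hx'
    rw [hT, Finset.mem_filter] at hx hg
    exact hτσ g hg.2 hx.2

omit D

/-- The function `L (1 - ψ ^ j)` on `U ⟨σ⟩`. -/
noncomputable def diffFn (L : G → ℂ) (ζ : ℂ) (j : ℕ) (g : rotSub D) : ℂ :=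
  L g * (1 - psi σ h ζ g ^ j)

include D

variable {L : G → ℂ} (hL : IsTwist P σ h L) {ζ : ℂ} (hζ : IsPrimitiveRoot ζ (2 * h))

include hL hζ

theorem diffFn_generalized (j : ℕ) : IsGeneralizedCharacter (rotSub D) (diffFn D L ζ j) := by
  have hψ0 : ∀ g : rotSub D, psi σ h ζ g ≠ 0 := fun g => by
    rw [psi]; exact pow_ne_zero _ (hζ.ne_zero (by have := D.two_le; omega))
  have hL0 : ∀ g : rotSub D, L g ≠ 0 := fun g => hL.ne_zero (commute_rotSub D g.2)
  let f₀ : rotSub D →* ℂˣ := MonoidHom.mk' (fun g => Units.mk0 (L g) (hL0 g)) fun a b =>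
    Units.ext (hL.mul _ _ (commute_rotSub D a.2) (commute_rotSub D b.2))
  let f₁ : rotSub D →* ℂˣ := MonoidHom.mk'
    (fun g => Units.mk0 (L g * psi σ h ζ g ^ j) (mul_ne_zero (hL0 g) (pow_ne_zero _ (hψ0 g))))
    fun a b => Units.ext (by
      simp only [Units.val_mk0, Units.val_mul, Subgroup.coe_mul]
      rw [hL.mul _ _ (commute_rotSub D a.2) (commute_rotSub D b.2), psi_mul D hζ a.2 b.2, mul_pow]
      ring)
  have e : diffFn D L ζ j = (fun g => (f₀ g : ℂ)) - fun g => (f₁ g : ℂ) := by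
    funext g
    simp only [diffFn, Pi.sub_apply, f₀, f₁, MonoidHom.mk'_apply, Units.val_mk0]
    ring
  rw [e]
  exact (isIrrCharacter_linear f₀).isGeneralized.sub (isIrrCharacter_linear f₁).isGeneralized

/-- The induced function on `U ⟨σ⟩`. -/
theorem indFun_diffFn (j : ℕ) {g : G} (hg : g ∈ rotSub D) (hne : psi σ h ζ g ≠ 1) :
    indFun (rotSub D) (diffFn D L ζ j) g =
      L g * (1 - psi σ h ζ g ^ j) + L g * (1 - (psi σ h ζ g)⁻¹ ^ j) := by
  classical
  have hev := even_order_of_psi D hζ hg hne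
  obtain ⟨F, hF⟩ : ∃ F : G → ℂ, F = fun x => extendByZero (rotSub D) (diffFn D L ζ j) (x⁻¹ * g * x) :=
    ⟨_, rfl⟩
  have hgc := commute_rotSub D hg
  have hτc : Commute τ (σ ^ h) := D.central_involution.2.2 τ D.memτ
  rw [indFun, show (∑ x : G, extendByZero (rotSub D) (diffFn D L ζ j) (x⁻¹ * g * x)) = ∑ x : G, F x
    by rw [hF], sum_centralizer D F fun x hx => ?_]
  · have hpsic : ∀ x : G, x ∈ rotSub D → psi σ h ζ (x⁻¹ * g * x) = psi σ h ζ g := by
      intro x hx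
      rw [psi_mul D hζ (mul_mem (inv_mem hx) hg) hx, psi_mul D hζ (inv_mem hx) hg, mul_comm
        (psi σ h ζ x⁻¹), mul_assoc, ← psi_mul D hζ (inv_mem hx) hx, inv_mul_cancel,
        show (1 : G) = 1 * σ ^ 0 by simp, psi_eq D hζ D.oddPart_spec.1, pow_zero, mul_one]
    have hLc : ∀ x : G, Commute x (σ ^ h) → L (x⁻¹ * g * x) = L g := fun x hx => by
      have := hL.conjugate hx.inv_left hgc
      rwa [inv_inv] at this
    have e1 : ∀ x : rotSub D, F x = L g * (1 - psi σ h ζ g ^ j) := fun x => by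
      have hm : (x : G)⁻¹ * g * x ∈ rotSub D := mul_mem (mul_mem (inv_mem x.2) hg) x.2
      simp only [hF, extendByZero_of_mem _ _ hm, diffFn, hpsic _ x.2,
        hLc _ (commute_rotSub D x.2)]
    have e2 : ∀ x : rotSub D, F ((x : G) * τ) = L g * (1 - (psi σ h ζ g)⁻¹ ^ j) := fun x => by
      have hm : (x : G)⁻¹ * g * x ∈ rotSub D := mul_mem (mul_mem (inv_mem x.2) hg) x.2
      have ee : ((x : G) * τ)⁻¹ * g * ((x : G) * τ) = τ * ((x : G)⁻¹ * g * x) * τ⁻¹ := by
        rw [mul_inv_rev, D.τ_inv]; group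
      obtain ⟨hm', hp⟩ := conj_tau_rotSub D hζ hm
      simp only [hF, ee, extendByZero_of_mem _ _ hm', diffFn, hp, hpsic _ x.2]
      rw [hL.conjugate hτc (commute_rotSub D hm), hLc _ (commute_rotSub D x.2)]
    rw [Finset.sum_congr rfl fun x _ => e1 x, Finset.sum_congr rfl fun x _ => e2 x,
      Finset.sum_const, Finset.sum_const, Finset.card_univ, nsmul_eq_mul, nsmul_eq_mul,
      ← Nat.card_eq_fintype_card, ← mul_add, ← mul_assoc, inv_mul_cancel₀ Char.card_cast_ne_zero,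
      one_mul]
  · rw [hF]
    refine extendByZero_of_notMem _ _ fun hm => hx ?_
    have h1 := commute_of_conj D hg (x := x⁻¹) (by rwa [inv_inv]) hev
    exact inv_inv x ▸ h1.inv_left

open Classical in
theorem gram (j k : ℕ) (hj0 : 0 < j) (hj : j < 2 * h) (hk0 : 0 < k) (hk : k < 2 * h) :
    classInner (indFun (rotSub D) (diffFn D L ζ j)) (indFun (rotSub D) (diffFn D L ζ k)) =
      2 + (if j = k then 1 else 0) + if j + k = 2 * h then 1 else 0 := by
  have hh := D.two_le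
  have hm : 0 < 2 * h := by omega
  have hζ0 : ζ ≠ 0 := hζ.ne_zero hm.ne'
  have hU : ((oddPart σ h).card : ℂ) ≠ 0 :=
    Nat.cast_ne_zero.2 (Finset.card_ne_zero.2 ⟨1, D.oddPart_spec.1⟩)
  have hcζ : ∀ n : ℕ, conj (ζ ^ n) = (ζ ^ n)⁻¹ := fun n => by
    have h1 : ‖ζ ^ n‖ = 1 := by
      rw [norm_pow, Complex.norm_eq_one_of_pow_eq_one hζ.pow_eq_one hm.ne', one_pow]
    rw [← Complex.inv_eq_conj h1]
  rw [classInner_indFun _ _ (isClassFunction_indFun _ _), classInner,
    Finset.sum_congr rfl (g := fun g : rotSub D => (1 - psi σ h ζ g ^ j) *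
      (2 - (psi σ h ζ g)⁻¹ ^ k - psi σ h ζ g ^ k)) fun g _ => ?_,
    sum_rotSub D fun g => (1 - psi σ h ζ g ^ j) * (2 - (psi σ h ζ g)⁻¹ ^ k - psi σ h ζ g ^ k),
    Finset.sum_congr rfl fun y hy => Finset.sum_congr rfl fun l _ => by rw [psi_eq D hζ hy],
    Finset.sum_const, nsmul_eq_mul, card_rotSub D]
  · have hz : ∀ l : ℕ, (1 - (ζ ^ l) ^ j) * (2 - ((ζ ^ l)⁻¹) ^ k - (ζ ^ l) ^ k) =
        2 * ζ ^ ((0 : ℤ) * l) - ζ ^ (-(k : ℤ) * l) - ζ ^ ((k : ℤ) * l) - 2 * ζ ^ ((j : ℤ) * l) +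
          ζ ^ (((j : ℤ) - k) * l) + ζ ^ (((j : ℤ) + k) * l) := by
      intro l
      simp only [← zpow_natCast, ← zpow_neg, ← zpow_mul]
      rw [show ((j : ℤ) - k) * l = (l : ℤ) * j + -(l : ℤ) * k by ring,
        show ((j : ℤ) + k) * l = (l : ℤ) * j + (l : ℤ) * k by ring, zpow_add₀ hζ0, zpow_add₀ hζ0,
        zero_mul, zpow_zero, show -(k : ℤ) * l = -(l : ℤ) * k by ring,
        show (k : ℤ) * l = (l : ℤ) * k by ring, show (j : ℤ) * l = (l : ℤ) * j by ring]
      ring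
    simp only [hz, Finset.sum_add_distrib, Finset.sum_sub_distrib, ← Finset.mul_sum,
      sum_zpow_mul_eq hζ hm]
    have d0 : ∀ d : ℤ, d ≠ 0 → -((2 * h : ℕ) : ℤ) < d → d < (2 * h : ℕ) →
        ¬(((2 * h : ℕ) : ℤ) ∣ d) := fun d hd h1 h2 hdvd => hd (Int.eq_zero_of_abs_lt_dvd hdvd
      (abs_lt.2 ⟨h1, h2⟩))
    rw [if_pos (dvd_zero _), if_neg (d0 _ (by omega) (by omega) (by omega)),
      if_neg (d0 _ (by omega) (by omega) (by omega)), if_neg (d0 _ (by omega) (by omega) (by omega))]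
    have i1 : (((2 * h : ℕ) : ℤ) ∣ (j : ℤ) - k) ↔ j = k := by
      refine ⟨fun hd => ?_, fun e => by subst e; simp⟩
      by_contra hne
      exact d0 _ (by omega) (by omega) (by omega) hd
    have i2 : (((2 * h : ℕ) : ℤ) ∣ (j : ℤ) + k) ↔ j + k = 2 * h := by
      refine ⟨fun ⟨c, hc⟩ => ?_, fun e => ⟨1, by omega⟩⟩
      rcases (show c ≤ 0 ∨ c = 1 ∨ 2 ≤ c by omega) with hc1 | hc1 | hc1
      · have := Int.mul_nonpos_of_nonneg_of_nonpos (show (0 : ℤ) ≤ (2 * h : ℕ) by omega) hc1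
        omega
      · subst hc1; omega
      · have := Int.mul_le_mul_of_nonneg_left hc1 (show (0 : ℤ) ≤ (2 * h : ℕ) by omega)
        omega
    have hne : ((2 * h : ℕ) : ℂ) ≠ 0 := Nat.cast_ne_zero.2 hm.ne'
    simp only [i1, i2]
    split_ifs <;> field_simp <;> ring
  · by_cases hg : psi σ h ζ g = 1
    · simp [diffFn, hg]
    · have hc := commute_rotSub D g.2
      have hmc := hL.mul_conj_self hc
      rw [indFun_diffFn D hL hζ k g.2 hg, diffFn]
      simp only [map_add, map_mul, map_sub, map_one, map_pow, map_inv₀]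
      rw [show conj (psi σ h ζ g) = (psi σ h ζ g)⁻¹ from hcζ _, inv_inv]
      linear_combination ((1 - psi σ h ζ g ^ j) * (1 - (psi σ h ζ g)⁻¹ ^ k) +
        (1 - psi σ h ζ g ^ j) * (1 - psi σ h ζ g ^ k)) * hmc

open Classical in
/-- The integral weights. -/
theorem exists_twist_weights (hconjJ : ∀ a : G, a * a = 1 → a ≠ 1 → IsConj (σ ^ h) a) :
    ∃ w : ℕ → IrrCharacter G → ℤ,
      (∀ j k, 0 < j → j ≤ h → 0 < k → k ≤ h →
        ∑ x, w j x * w k x = 2 + (if j = k then 1 else 0) + if j + k = 2 * h then 1 else 0) ∧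
      (∀ j, 0 < j → j ≤ h → ∑ x, w j x * (charDegree (x : G → ℂ) : ℤ) = 0) ∧
      (∀ χ : IrrCharacter G, ∑ y ∈ oddPart σ h, conj (L y) * (χ : G → ℂ) (σ ^ h * y) =
        ((oddPart σ h).card : ℂ) * (-(midValue h w χ) : ℤ)) ∧
      (∀ j, 0 < j → j ≤ h →
        ∑ x : IrrCharacter G, (w j x : ℂ) * ((x : G → ℂ) (σ ^ h) * (x : G → ℂ) (σ ^ h) /
            (x : G → ℂ) 1) =
          ∑ x : IrrCharacter G, classInner (diffFn D (fun _ => 1) ζ j)
            (fun g : rotSub D => (x : G → ℂ) g) * ((x : G → ℂ) (σ ^ h) * (x : G → ℂ) (σ ^ h) /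
            (x : G → ℂ) 1)) ∧
      (∀ (j : ℕ) (x : IrrCharacter G),
        (w j x : ℂ) = classInner (diffFn D L ζ j) (fun g : rotSub D => (x : G → ℂ) g)) := by
  have hh := D.two_le
  have hm : 0 < 2 * h := by omega
  obtain ⟨hJ2, hJ1, -⟩ := D.central_involution
  have hint : ∀ (j : ℕ) (x : IrrCharacter G), ∃ n : ℤ,
      classInner (diffFn D L ζ j) (fun g : rotSub D => (x : G → ℂ) g) = n := fun j x =>
    (diffFn_generalized D hL hζ j).exists_int_classInner
      (x.2.isCharacter.comp (rotSub D).subtype).isGeneralized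
  choose w hw using hint
  have hwF : ∀ (j : ℕ) (x : IrrCharacter G),
      classInner (indFun (rotSub D) (diffFn D L ζ j)) (x : G → ℂ) = w j x := fun j x => by
    rw [classInner_indFun _ _ x.2.isClassFunction]; exact hw j x
  have hg : ∀ j k, 0 < j → j < 2 * h → 0 < k → k < 2 * h →
      ∑ x, w j x * w k x = 2 + (if j = k then 1 else 0) + if j + k = 2 * h then 1 else 0 := by
    intro j k hj0 hj hk0 hk
    have e := gram D hL hζ j k hj0 hj hk0 hk
    rw [classInner_eq_sum (isClassFunction_indFun _ _),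
      Finset.sum_congr rfl fun x _ => by rw [hwF, hwF, map_intCast]] at e
    apply Int.cast_injective (α := ℂ)
    push_cast
    exact e
  have hsym : ∀ j, 0 < j → j < 2 * h → ∀ x, w (2 * h - j) x = w j x := by
    intro j hj0 hj x
    have e : ∑ x, (w (2 * h - j) x - w j x) * (w (2 * h - j) x - w j x) = 0 := by
      rw [Finset.sum_congr rfl (g := fun x => w (2 * h - j) x * w (2 * h - j) x -
        2 * (w (2 * h - j) x * w j x) + w j x * w j x) fun x _ => by ring,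
        Finset.sum_add_distrib, Finset.sum_sub_distrib, ← Finset.mul_sum,
        hg _ _ (by omega) (by omega) (by omega) (by omega),
        hg _ _ (by omega) (by omega) hj0 hj, hg _ _ hj0 hj hj0 hj]
      by_cases hjh : j = h
      · subst hjh
        rw [show 2 * j - j = j by omega]
        simp [two_mul]
      · rw [if_pos rfl, if_neg (by omega), if_neg (by omega), if_pos (by omega), if_pos rfl,
          if_neg (by omega)]
        norm_num
    exact sub_eq_zero.1 (mul_self_eq_zero.1 ((Finset.sum_eq_zero_iff_of_nonneg fun x _ =>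
      mul_self_nonneg (w (2 * h - j) x - w j x)).1 e x (Finset.mem_univ x)))
  refine ⟨w, fun j k hj0 hj hk0 hk => hg j k hj0 (by omega) hk0 (by omega), fun j hj0 hj => ?_,
    fun χ => ?_, fun j hj0 hj => ?_, fun j x => (hw j x).symm⟩
  · have e := congrFun (eq_sum_classInner (isClassFunction_indFun (rotSub D) (diffFn D L ζ j))) 1
    rw [indFun_apply_one, diffFn, OneMemClass.coe_one,
      show psi σ h ζ (1 : G) = 1 by
        rw [show (1 : G) = 1 * σ ^ 0 by simp, psi_eq D hζ D.oddPart_spec.1, pow_zero],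
      one_pow, sub_self, mul_zero, mul_zero, Finset.sum_apply] at e
    simp only [Pi.smul_apply, smul_eq_mul, hwF, Block.apply_one_eq_charDegree] at e
    apply Int.cast_injective (α := ℂ)
    push_cast
    exact e.symm
  · -- the value at the involution
    have hU : ((oddPart σ h).card : ℂ) ≠ 0 :=
      Nat.cast_ne_zero.2 (Finset.card_ne_zero.2 ⟨1, D.oddPart_spec.1⟩)
    have hmid : ((midValue h w χ : ℤ) : ℂ) = ∑ j ∈ Finset.Ioo 0 (2 * h), (-1 : ℂ) ^ j * w j χ := by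
      have hs : Finset.Ioo 0 (2 * h) = Finset.Ioo 0 h ∪ ({h} ∪ Finset.Ioo h (2 * h)) := by
        ext; simp; omega
      rw [hs, Finset.sum_union (Finset.disjoint_left.2 (by simp; omega)),
        Finset.sum_union (Finset.disjoint_left.2 (by simp)), Finset.sum_singleton,
        D.even.neg_one_pow, one_mul,
        show ∑ j ∈ Finset.Ioo h (2 * h), (-1 : ℂ) ^ j * w j χ =
            ∑ j ∈ Finset.Ioo 0 h, (-1 : ℂ) ^ j * w j χ from ?_, midValue]
      · push_cast; ring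
      · refine Finset.sum_bij' (fun j _ => 2 * h - j) (fun j _ => 2 * h - j)
          (fun j hj => by simp only [Finset.mem_Ioo] at hj ⊢; omega)
          (fun j hj => by simp only [Finset.mem_Ioo] at hj ⊢; omega)
          (fun j hj => by simp only [Finset.mem_Ioo] at hj; omega)
          (fun j hj => by simp only [Finset.mem_Ioo] at hj; omega) fun j hj => ?_
        simp only [Finset.mem_Ioo] at hj
        rw [hsym j (by omega) (by omega) χ]
        congr 1
        have : (-1 : ℂ) ^ (2 * h - j) * (-1) ^ j = 1 := by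
          rw [← pow_add, show 2 * h - j + j = 2 * h by omega, pow_mul]; norm_num
        rcases neg_one_pow_eq_or ℂ j with a | a <;> rw [a] at this ⊢ <;> first | linear_combination this | linear_combination -this
    have hsum : ∀ l, l < 2 * h → ∑ j ∈ Finset.Ioo 0 (2 * h), (-1 : ℂ) ^ j * (1 - (ζ ^ l) ^ j) =
        if l = h then -((2 * h : ℕ) : ℂ) else 0 := by
      intro l hl
      have hneg : ζ ^ h = -1 := (hζ.pow (a := h) hm (mul_comm 2 h)).eq_neg_one_of_two_right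
      have e : ∀ (d : ℕ), ∑ j ∈ Finset.Ioo 0 (2 * h), (ζ ^ d) ^ j =
          (if ((2 * h : ℕ) : ℤ) ∣ (d : ℤ) then ((2 * h : ℕ) : ℂ) else 0) - 1 := by
        intro d
        rw [show Finset.Ioo 0 (2 * h) = (Finset.range (2 * h)).erase 0 by ext; simp; omega,
          Finset.sum_erase_eq_sub (Finset.mem_range.2 hm), pow_zero, ← sum_zpow_mul_eq hζ hm]
        congr 1
        exact Finset.sum_congr rfl fun j _ => by rw [← pow_mul, ← zpow_natCast, Nat.cast_mul]
      rw [Finset.sum_congr rfl (g := fun j => (ζ ^ h) ^ j - (ζ ^ (h + l)) ^ j) fun j _ => by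
        rw [mul_sub, mul_one, ← mul_pow, pow_add ζ h l, hneg], Finset.sum_sub_distrib, e, e,
        if_neg (fun hd => by have := Int.natCast_dvd_natCast.1 hd; have := Nat.le_of_dvd (by omega) this; omega)]
      have i : (((2 * h : ℕ) : ℤ) ∣ ((h + l : ℕ) : ℤ)) ↔ l = h := by
        rw [Int.natCast_dvd_natCast]
        refine ⟨fun ⟨c, hc⟩ => ?_, fun e => ⟨1, by omega⟩⟩
        rcases (show c = 0 ∨ c = 1 ∨ 2 ≤ c by omega) with a | a | a
        · subst a; omega
        · subst a; omega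
        · have := Nat.mul_le_mul_left (2 * h) a; omega
      simp only [i]
      split_ifs <;> ring
    have key : ((midValue h w χ : ℤ) : ℂ) =
        -((oddPart σ h).card : ℂ)⁻¹ * ∑ y ∈ oddPart σ h, L y * conj ((χ : G → ℂ) (y * σ ^ h)) := by
      rw [hmid, Finset.sum_congr rfl fun j _ => by rw [← hw j χ]]
      simp only [classInner, diffFn, Finset.mul_sum]
      rw [Finset.sum_comm, Finset.sum_congr rfl (g := fun g : rotSub D => ((Nat.card (rotSub D) : ℂ))⁻¹ *
        (L g * conj ((χ : G → ℂ) g)) *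
          ∑ j ∈ Finset.Ioo 0 (2 * h), (-1 : ℂ) ^ j * (1 - psi σ h ζ g ^ j)) fun g _ => by
        rw [Finset.mul_sum]; exact Finset.sum_congr rfl fun j _ => by ring,
        sum_rotSub D fun g => ((Nat.card (rotSub D) : ℂ))⁻¹ * (L g * conj ((χ : G → ℂ) g)) *
          ∑ j ∈ Finset.Ioo 0 (2 * h), (-1 : ℂ) ^ j * (1 - psi σ h ζ g ^ j)]
      refine Finset.sum_congr rfl fun y hy => ?_
      rw [Finset.sum_eq_single_of_mem h (Finset.mem_range.2 (by omega)) fun l hl hne => by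
        rw [psi_eq D hζ hy, hsum l (Finset.mem_range.1 hl), if_neg hne, mul_zero],
        psi_eq D hζ hy, hsum h (by omega), if_pos rfl,
        hL.map_sylow_mul D (pow_mem D.memσ h) hy, card_rotSub D]
      have hne : ((2 * h : ℕ) : ℂ) ≠ 0 := Nat.cast_ne_zero.2 hm.ne'
      field_simp
    have key' := congrArg conj key
    rw [map_intCast, map_mul, map_neg, map_inv₀, Complex.conj_natCast, map_sum] at key'
    rw [Int.cast_neg, key']
    simp only [neg_mul, mul_neg, neg_neg]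
    rw [mul_inv_cancel_left₀ hU]
    refine Finset.sum_congr rfl fun y hy => ?_
    rw [map_mul, Complex.conj_conj, (commute_of_mem hy).eq]
  · -- independence of the twist
    obtain ⟨κ, hκ⟩ : ∃ κ : G → ℂ, κ = fun g =>
        ∑ x : IrrCharacter G, (x : G → ℂ) (σ ^ h) * (x : G → ℂ) (σ ^ h) * conj ((x : G → ℂ) g) /
          (x : G → ℂ) 1 := ⟨_, rfl⟩
    have hS : ∀ β : rotSub D → ℂ, ∑ x : IrrCharacter G, classInner β (fun g : rotSub D => (x : G → ℂ) g) *
        ((x : G → ℂ) (σ ^ h) * (x : G → ℂ) (σ ^ h) / (x : G → ℂ) 1) =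
        (Nat.card (rotSub D) : ℂ)⁻¹ * ∑ g : rotSub D, β g * κ g := by
      intro β
      simp only [hκ, classInner, Finset.mul_sum, Finset.sum_mul]
      rw [Finset.sum_comm]
      exact Finset.sum_congr rfl fun g _ => Finset.sum_congr rfl fun x _ => by ring
    rw [Finset.sum_congr rfl fun x _ => by rw [← hw j x], hS, hS]
    congr 1
    refine Finset.sum_congr rfl fun g _ => ?_
    simp only [diffFn, one_mul]
    by_cases hκ0 : κ g = 0
    · rw [hκ0, mul_zero, mul_zero]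
    by_cases hg1 : psi σ h ζ g = 1
    · simp [hg1]
    suffices hL1 : L g = 1 by rw [hL1, one_mul]
    have hcount := Char.card_class_product (σ ^ h) (σ ^ h) (g : G)
    obtain ⟨q, hq⟩ : ((classFinset (σ ^ h) ×ˢ classFinset (σ ^ h)).filter
        fun q => q.1 * q.2 = (g : G)).Nonempty := by
      rw [← Finset.card_pos, pos_iff_ne_zero]
      intro e0
      rw [e0, Nat.cast_zero] at hcount
      rcases mul_eq_zero.1 hcount.symm with e | e
      · rw [div_eq_zero_iff, mul_self_eq_zero, Nat.cast_eq_zero, Finset.card_eq_zero] at e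
        rcases e with e | e
        · exact Finset.notMem_empty _ (e ▸ mem_classFinset.2 (IsConj.refl (σ ^ h)))
        · exact Char.card_cast_ne_zero e
      · exact hκ0 (by rw [hκ]; exact e)
    obtain ⟨hq, hqg⟩ := Finset.mem_filter.1 hq
    obtain ⟨hqa, hqb⟩ := Finset.mem_product.1 hq
    have hsq : ∀ a ∈ classFinset (σ ^ h), a * a = 1 := fun a ha => by
      obtain ⟨z, rfl⟩ := isConj_iff.1 (mem_classFinset.1 ha)
      rw [show z * σ ^ h * z⁻¹ * (z * σ ^ h * z⁻¹) = z * (σ ^ h * σ ^ h) * z⁻¹ by group, hJ2,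
        mul_one, mul_inv_cancel]
    have ha2 := hsq _ hqa
    have hb2 := hsq _ hqb
    have e : q.1 * (g : G) * q.1⁻¹ = (g : G)⁻¹ := by
      rw [← hqg, mul_inv_rev, inv_eq_of_mul_eq_one_right hb2, inv_eq_of_mul_eq_one_right ha2,
        ← mul_assoc, ha2, one_mul]
    have hgc := commute_rotSub D g.2
    have hac := commute_of_conj D g.2 (x := q.1) (by rw [e]; exact inv_mem g.2)
      (even_order_of_psi D hζ g.2 hg1)
    have h1 := hL.conjugate hac hgc
    rw [e] at h1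
    have h2 := hL.map_inv_mul hgc
    rw [h1] at h2
    obtain ⟨y, hy, l, hyl⟩ := (mem_rotSub D).1 g.2
    rw [hyl, hL.map_sylow_mul D (pow_mem D.memσ l) hy] at h2 ⊢
    exact hL.eq_one_of_sq hy h2

end Cfsg.Lib.GW.Twist
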