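import Cfsg.Agent.Lib.Block.DihedralShape

/-!
# The weights of a twisted rotation function

Integer rows with the Gram matrix of the rotations of a dihedral group, orthogonal to a positive
vector of degrees: either the pairs in the common support agree, or `h = 4` and the degrees are
proportional to `3, 1, 1, 1, 2`.
-/

set_option autoImplicit false
set_option maxHeartbeats 1600000

namespace Cfsg.Lib.GW.Twist

open Cfsg.Lib.Block

variable {α : Type*} [Fintype α] [DecidableEq α]

/-- A row with square sum at most four which is orthogonal to a positive vector. -/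
theorem abs_le_one_of_orth {f deg : α → ℤ} (hpos : ∀ x, 0 < deg x)
    (hsq : ∑ x, f x * f x ≤ 4) (hrel : ∑ x, f x * deg x = 0) (x : α) :
    f x = -1 ∨ f x = 0 ∨ f x = 1 := by
  by_contra hn
  have hx : 4 ≤ f x * f x := by
    have : f x ≤ -2 ∨ 2 ≤ f x := by omega
    rcases this with a | a <;> nlinarith
  have hoff : ∀ y, y ≠ x → f y = 0 := fun y hy => by
    have h2 : ∑ z ∈ ({x, y} : Finset α), f z * f z ≤ 4 :=
      le_trans (Finset.sum_le_sum_of_subset_of_nonneg (Finset.subset_univ _)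
        fun z _ _ => mul_self_nonneg _) hsq
    rw [Finset.sum_pair (Ne.symm hy)] at h2
    exact mul_self_eq_zero.1 (le_antisymm (by linarith) (mul_self_nonneg _))
  rw [Finset.sum_eq_single_of_mem x (Finset.mem_univ _)
    (fun y _ hy => by rw [hoff y hy, zero_mul])] at hrel
  rcases mul_eq_zero.1 hrel with e | e
  · rw [e] at hx; norm_num at hx
  · exact (hpos x).ne' e

/-- The support of a row of small square sum. -/
theorem card_support {f : α → ℤ} {n : ℕ} (hone : ∀ x, f x = -1 ∨ f x = 0 ∨ f x = 1)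
    (hsq : ∑ x, f x * f x = n) : (Finset.univ.filter fun x => f x ≠ 0).card = n := by
  have e : ∑ x ∈ Finset.univ.filter (fun x => f x ≠ 0), f x * f x = n := by
    rw [Finset.sum_filter_of_ne (p := fun x => f x ≠ 0) fun x _ hx h0 => hx (by rw [h0, zero_mul])]
    exact hsq
  rw [Finset.sum_congr rfl (g := fun _ => (1 : ℤ)) fun x hx => by
    rcases hone x with a | a | a
    · rw [a]; norm_num
    · exact absurd a (Finset.mem_filter.1 hx).2
    · rw [a]; norm_num] at e
  simp only [Finset.sum_const, nsmul_eq_mul, mul_one] at e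
  exact_mod_cast e

/-- The data of the first and the middle row. `n` records the values of the middle column against
the middle row. -/
structure Shape (h : ℕ) (w : ℕ → α → ℤ) (deg : α → ℤ) (p q r r' y : α) (n : ℤ × ℤ × ℤ × ℤ) :
    Prop where
  hp : w h p = 1 ∨ w h p = -1
  hq : w h q = 1 ∨ w h q = -1
  hr : w h r = 1 ∨ w h r = -1
  hr' : w h r' = 1 ∨ w h r' = -1
  hy : w 1 y = 1 ∨ w 1 y = -1
  one_p : w 1 p = w h p
  one_q : w 1 q = w h q
  sum_one : ∀ F : α → ℂ, ∑ x, (w 1 x : ℂ) * F x = w h p * F p + w h q * F q + w 1 y * F y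
  sum_mid : ∀ F : α → ℂ, ∑ x, (w h x : ℂ) * F x =
    w h p * F p + w h q * F q + w h r * F r + w h r' * F r'
  mid_p : midValue h w p = -n.1 * w h p
  mid_q : midValue h w q = -n.2.1 * w h q
  mid_r : midValue h w r = -n.2.2.1 * w h r
  mid_r' : midValue h w r' = -n.2.2.2 * w h r'
  mid_y : midValue h w y = -2 * w 1 y
  ne_pq : p ≠ q

theorem exists_shape {h : ℕ} (hh : 2 ≤ h) (heven : Even h) (hsmall : h = 2 ∨ h = 4 ∨ 8 ≤ h)
    (w : ℕ → α → ℤ) (deg : α → ℤ) (hpos : ∀ x, 0 < deg x)
    (hgram : ∀ j k, 0 < j → j ≤ h → 0 < k → k ≤ h →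
      ∑ x, w j x * w k x = 2 + (if j = k then 1 else 0) + if j + k = 2 * h then 1 else 0)
    (hrel : ∀ j, 0 < j → j ≤ h → ∑ x, w j x * deg x = 0) :
    ∃ p q r r' y : α,
      Shape h w deg p q r r' y (1, 1, -1, -1) ∨
      (Shape h w deg p q r r' y (1, 1, -3, 1) ∧ ∃ A : ℤ, w h p * deg p = -3 * A ∧
        w h q * deg q = A ∧ w h r * deg r = A ∧ w h r' * deg r' = A) ∨
      (Shape h w deg p q r r' y (3, -1, -1, -1) ∧ ∃ A : ℤ, w h p * deg p = A ∧
        w h q * deg q = A ∧ w h r * deg r = A ∧ w h r' * deg r' = -3 * A) := by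
  have hHH : ∑ x, w h x * w h x = 4 := by
    rw [hgram h h (by omega) le_rfl (by omega) le_rfl, if_pos rfl, if_pos (two_mul h).symm]
    norm_num
  have hjj : ∀ j, 0 < j → j < h → ∑ x, w j x * w j x = 3 := fun j hj0 hj => by
    rw [hgram j j hj0 hj.le hj0 hj.le, if_pos rfl, if_neg (by omega)]
    norm_num
  have hjh : ∀ j, 0 < j → j < h → ∑ x, w j x * w h x = 2 := fun j hj0 hj => by
    rw [hgram j h hj0 hj.le (by omega) le_rfl, if_neg (by omega), if_neg (by omega)]
    norm_num
  have hsgn : ∀ j, 0 < j → j ≤ h → ∀ x, w j x = -1 ∨ w j x = 0 ∨ w j x = 1 := fun j hj0 hj =>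
    abs_le_one_of_orth hpos (by
      rw [hgram j j hj0 hj hj0 hj, if_pos rfl]
      split_ifs <;> norm_num) (hrel j hj0 hj)
  obtain ⟨S, hS⟩ : ∃ S, S = Finset.univ.filter fun x => w h x ≠ 0 := ⟨_, rfl⟩
  have hmemS : ∀ x, x ∈ S ↔ w h x ≠ 0 := fun x => by simp [hS]
  have hScard : S.card = 4 := by
    rw [hS]; exact card_support (hsgn h (by omega) le_rfl) (by rw [hHH]; rfl)
  have hSv : ∀ x ∈ S, w h x = 1 ∨ w h x = -1 := fun x hx => by
    rcases hsgn h (by omega) le_rfl x with a | a | a
    · exact Or.inr a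
    · exact absurd a ((hmemS x).1 hx)
    · exact Or.inl a
  -- each row
  have hrow : ∀ j, 0 < j → j < h → ∃ (P : Finset α) (Y : α), P ⊆ S ∧ P.card = 2 ∧ Y ∉ S ∧
      (w j Y = 1 ∨ w j Y = -1) ∧ ∀ x, x ≠ Y → w j x = if x ∈ P then w h x else 0 := by
    intro j hj0 hj
    obtain ⟨T, hT⟩ : ∃ T, T = Finset.univ.filter fun x => w j x ≠ 0 := ⟨_, rfl⟩
    have hTcard : T.card = 3 := by
      rw [hT]; exact card_support (hsgn j hj0 hj.le) (by rw [hjj j hj0 hj]; rfl)
    have e := hjh j hj0 hj
    have hTS : ∑ x ∈ T ∩ S, w j x * w h x = 2 := by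
      rw [← e]
      refine Finset.sum_subset (Finset.subset_univ _) fun x _ hx => ?_
      by_cases h0 : w j x = 0
      · rw [h0, zero_mul]
      by_cases h1 : w h x = 0
      · rw [h1, mul_zero]
      exact absurd (Finset.mem_inter.2 ⟨by simp [hT, h0], (hmemS x).2 h1⟩) hx
    have hpm : ∀ x ∈ T ∩ S, w j x * w h x = 1 ∨ w j x * w h x = -1 := by
      intro x hx
      obtain ⟨hxT, hxS⟩ := Finset.mem_inter.1 hx
      rw [hT, Finset.mem_filter] at hxT
      rcases hsgn j hj0 hj.le x with a | a | a <;> rcases hSv x hxS with b | b <;>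
        first | exact absurd a hxT.2 | (rw [a, b]; norm_num)
    obtain ⟨k, hk⟩ : ∃ k, k = ((T ∩ S).filter fun x => w j x * w h x = -1).card := ⟨_, rfl⟩
    have hsum : (T ∩ S).card = 2 + 2 * k := by
      have h2 : ∑ x ∈ T ∩ S, (w j x * w h x + 2 * if w j x * w h x = -1 then 1 else 0) =
          ∑ _x ∈ T ∩ S, (1 : ℤ) := Finset.sum_congr rfl fun x hx => by
        rcases hpm x hx with a | a <;> rw [a] <;> norm_num
      rw [Finset.sum_add_distrib, hTS, ← Finset.mul_sum, Finset.sum_boole, ← hk] at h2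
      simp only [Finset.sum_const, nsmul_eq_mul, mul_one] at h2
      exact_mod_cast h2.symm
    have hle : (T ∩ S).card ≤ 3 := hTcard ▸ Finset.card_le_card Finset.inter_subset_left
    have hcard : (T ∩ S).card = 2 := by omega
    have hneg : ∀ x ∈ T ∩ S, w j x = w h x := by
      intro x hx
      have h1 : w j x * w h x = 1 := (hpm x hx).resolve_right fun a => by
        have : 0 < k := hk ▸ Finset.card_pos.2 ⟨x, Finset.mem_filter.2 ⟨hx, a⟩⟩
        omega
      rcases hsgn j hj0 hj.le x with a | a | a <;>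
        rcases hSv x (Finset.mem_inter.1 hx).2 with b | b <;> rw [a, b] at h1 <;> omega
    have hd : (T \ S).card = 1 := by
      have := Finset.card_sdiff_add_card_inter T S
      omega
    obtain ⟨Y, hY⟩ := Finset.card_eq_one.1 hd
    have hYm : Y ∈ T \ S := by rw [hY]; exact Finset.mem_singleton_self _
    obtain ⟨hYT, hYS⟩ := Finset.mem_sdiff.1 hYm
    refine ⟨T ∩ S, Y, Finset.inter_subset_right, hcard, hYS, ?_, fun x hx => ?_⟩
    · rw [hT, Finset.mem_filter] at hYT
      rcases hsgn j hj0 hj.le Y with a | a | a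
      · exact Or.inr a
      · exact absurd a hYT.2
      · exact Or.inl a
    · split_ifs with hP
      · exact hneg x hP
      · by_contra h0
        have hxT : x ∈ T := by simp [hT, h0]
        by_cases hxS : x ∈ S
        · exact hP (Finset.mem_inter.2 ⟨hxT, hxS⟩)
        · have : x ∈ T \ S := Finset.mem_sdiff.2 ⟨hxT, hxS⟩
          rw [hY, Finset.mem_singleton] at this
          exact hx this
  haveI : Nonempty α := by
    obtain ⟨x, -⟩ := Finset.card_pos.1 (by omega : 0 < S.card)
    exact ⟨x⟩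
  choose! P Y hPS hP2 hYS hYv hval using hrow
  have hwY : ∀ j, 0 < j → j < h → ∀ x, x ∈ S → w j x = if x ∈ P j then w h x else 0 :=
    fun j hj0 hj x hx => hval j hj0 hj x fun e => hYS j hj0 hj (e ▸ hx)
  have hwh0 : ∀ x, x ∉ S → w h x = 0 := fun x hx => not_not.1 fun h0 => hx ((hmemS x).2 h0)
  have hpair : ∀ j k, 0 < j → j < h → 0 < k → k < h → j ≠ k →
      ((P j = P k) ∧ Y j ≠ Y k) ∨ ((P j ∩ P k).card = 1 ∧ Y j = Y k ∧ w j (Y j) = w k (Y k)) := by
    intro j k hj0 hj hk0 hk hne
    have e := hgram j k hj0 hj.le hk0 hk.le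
    rw [if_neg hne, if_neg (by omega), ← Finset.sum_subset (Finset.subset_univ (insert (Y j) (P j)))
      (fun x _ hx => by
        simp only [Finset.mem_insert, not_or] at hx
        rw [hval j hj0 hj x hx.1, if_neg hx.2, zero_mul]),
      Finset.sum_insert (fun hm => hYS j hj0 hj (hPS j hj0 hj hm)),
      Finset.sum_congr rfl (g := fun x => if x ∈ P k then (1 : ℤ) else 0) (fun x hx => by
        have hxS := hPS j hj0 hj hx
        rw [hwY j hj0 hj x hxS, hwY k hk0 hk x hxS, if_pos hx]
        split_ifs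
        · rcases hSv x hxS with a | a <;> rw [a] <;> norm_num
        · exact mul_zero _),
      Finset.sum_boole, Finset.filter_mem_eq_inter] at e
    have hle : (P j ∩ P k).card ≤ 2 := hP2 j hj0 hj ▸ Finset.card_le_card Finset.inter_subset_left
    by_cases hY : Y j = Y k
    · right
      rw [hY] at e
      rcases hYv j hj0 hj with a | a <;> rcases hYv k hk0 hk with b | b <;>
        rw [hY] at a <;> rw [a, b] at e <;> push_cast at e <;>
        first
          | (exfalso; omega)
          | exact ⟨by omega, hY, by rw [hY, a, b]⟩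
    · left
      have h0 : w k (Y j) = 0 := by
        rw [hval k hk0 hk _ hY, if_neg fun hm => hYS j hj0 hj (hPS k hk0 hk hm)]
      rw [h0, mul_zero, zero_add] at e
      have hc : (P j ∩ P k).card = 2 := by omega
      refine ⟨?_, hY⟩
      have e1 := Finset.eq_of_subset_of_card_le (Finset.inter_subset_left (s₁ := P j) (s₂ := P k))
        (by rw [hc, hP2 j hj0 hj])
      have e2 := Finset.eq_of_subset_of_card_le (Finset.inter_subset_right (s₁ := P j) (s₂ := P k))
        (by rw [hc, hP2 k hk0 hk])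
      exact e1.symm.trans e2
  have h1 : (0 : ℕ) < 1 ∧ 1 < h := ⟨one_pos, by omega⟩
  have hneg := sum_Ioo_neg_one_pow hh heven
  -- from a labelling of the four elements to the sums
  have mk : ∀ (p q r r' : α) (n : ℤ × ℤ × ℤ × ℤ), P 1 = {p, q} → S = {p, q, r, r'} → p ≠ q →
      p ≠ r → p ≠ r' → q ≠ r → q ≠ r' → r ≠ r' →
      midValue h w p = -n.1 * w h p → midValue h w q = -n.2.1 * w h q →
      midValue h w r = -n.2.2.1 * w h r → midValue h w r' = -n.2.2.2 * w h r' →
      midValue h w (Y 1) = -2 * w 1 (Y 1) → Shape h w deg p q r r' (Y 1) n := by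
    intro p q r r' n hP hSe npq npr npr' nqr nqr' nrr' m1 m2 m3 m4 m5
    have hmem : p ∈ S ∧ q ∈ S ∧ r ∈ S ∧ r' ∈ S := by simp [hSe]
    have op : w 1 p = w h p := by rw [hwY 1 h1.1 h1.2 p hmem.1, if_pos (by simp [hP])]
    have oq : w 1 q = w h q := by rw [hwY 1 h1.1 h1.2 q hmem.2.1, if_pos (by simp [hP])]
    have nY : p ≠ Y 1 ∧ q ≠ Y 1 :=
      ⟨fun e => hYS 1 h1.1 h1.2 (e ▸ hmem.1), fun e => hYS 1 h1.1 h1.2 (e ▸ hmem.2.1)⟩
    refine ⟨hSv p hmem.1, hSv q hmem.2.1, hSv r hmem.2.2.1, hSv r' hmem.2.2.2, hYv 1 h1.1 h1.2,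
      op, oq, fun F => ?_, fun F => ?_, m1, m2, m3, m4, m5, npq⟩
    · rw [← Finset.sum_subset (Finset.subset_univ ({p, q, Y 1} : Finset α)) (fun x _ hx => by
        simp only [Finset.mem_insert, Finset.mem_singleton, not_or] at hx
        rw [hval 1 h1.1 h1.2 x hx.2.2, if_neg (by simp [hP, hx.1, hx.2.1]), Int.cast_zero,
          zero_mul]),
        Finset.sum_insert (by simp [npq, nY.1]), Finset.sum_pair nY.2, op, oq]
      ring
    · rw [← Finset.sum_subset (Finset.subset_univ S) (fun x _ hx => by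
        rw [hwh0 x hx, Int.cast_zero, zero_mul]), hSe,
        Finset.sum_insert (by simp [npq, npr, npr']), Finset.sum_insert (by simp [nqr, nqr']),
        Finset.sum_pair nrr']
      ring
  by_cases hsame : ∀ j, 0 < j → j < h → P j = P 1
  · obtain ⟨p, q, npq, hP⟩ := Finset.card_eq_two.1 (hP2 1 h1.1 h1.2)
    have hrest : (S \ P 1).card = 2 := by
      rw [Finset.card_sdiff_of_subset (hPS 1 h1.1 h1.2), hScard, hP2 1 h1.1 h1.2]
    obtain ⟨r, r', nrr', hr⟩ := Finset.card_eq_two.1 hrest
    have hSe : S = {p, q, r, r'} := by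
      rw [← Finset.union_sdiff_of_subset (hPS 1 h1.1 h1.2), hr, hP]
      ext; simp; tauto
    have hrn : ∀ x ∈ S \ P 1, x ≠ p ∧ x ≠ q := fun x hx => by
      have := (Finset.mem_sdiff.1 hx).2
      simpa [hP] using this
    obtain ⟨a1, a2⟩ := hrn r (by simp [hr])
    obtain ⟨b1, b2⟩ := hrn r' (by simp [hr])
    have hm : ∀ x ∈ S, midValue h w x = if x ∈ P 1 then -w h x else w h x := by
      intro x hx
      rw [midValue, Finset.sum_congr rfl (g := fun j => (-1) ^ j * if x ∈ P 1 then w h x else 0)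
        fun j hj => by
          rw [Finset.mem_Ioo] at hj
          rw [hwY j hj.1 hj.2 x hx, hsame j hj.1 hj.2],
        ← Finset.sum_mul, hneg]
      split_ifs <;> ring
    have hY1 : midValue h w (Y 1) = -2 * w 1 (Y 1) := by
      rw [midValue, hwh0 _ (hYS 1 h1.1 h1.2),
        Finset.sum_eq_single_of_mem 1 (Finset.mem_Ioo.2 h1) fun j hj hne => by
          rw [Finset.mem_Ioo] at hj
          have hne' : Y 1 ≠ Y j := ((hpair 1 j h1.1 h1.2 hj.1 hj.2 (Ne.symm hne)).resolve_right
            fun hc => by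
              rw [hsame j hj.1 hj.2, Finset.inter_self, hP2 1 h1.1 h1.2] at hc
              omega).2
          rw [hval j hj.1 hj.2 _ hne', if_neg fun hm => hYS 1 h1.1 h1.2 (hPS j hj.1 hj.2 hm),
            mul_zero]]
      ring
    refine ⟨p, q, r, r', Y 1, Or.inl (mk p q r r' _ hP hSe npq a1.symm b1.symm a2.symm b2.symm
      nrr' ?_ ?_ ?_ ?_ hY1)⟩
    · rw [hm p (by simp [hSe]), if_pos (by simp [hP])]; ring
    · rw [hm q (by simp [hSe]), if_pos (by simp [hP])]; ring
    · rw [hm r (by simp [hSe]), if_neg (by simp [hP, a1, a2])]; ring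
    · rw [hm r' (by simp [hSe]), if_neg (by simp [hP, b1, b2])]; ring
  -- the pairs differ
  push_neg at hsame
  obtain ⟨l, hl0, hl, hlne⟩ := hsame
  have hdist : ∀ j k, 0 < j → j < h → 0 < k → k < h → j ≠ k →
      (P j ∩ P k).card = 1 ∧ Y j = Y k ∧ w j (Y j) = w k (Y k) := by
    intro j k hj0 hj hk0 hk hne
    refine (hpair j k hj0 hj hk0 hk hne).resolve_left fun ⟨hP', hY'⟩ => hlne ?_
    have hone : ∀ i, 0 < i → i < h → P i = P j := by
      intro i hi0 hi
      by_contra hi'
      have a1 : i ≠ j := fun e => hi' (by rw [e])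
      have a2 : i ≠ k := fun e => hi' (by rw [e, ← hP'])
      have b1 := (hpair i j hi0 hi hj0 hj a1).resolve_left fun e => hi' e.1
      have b2 := (hpair i k hi0 hi hk0 hk a2).resolve_left fun e => hi' (e.1.trans hP'.symm)
      exact hY' (b1.2.1.symm.trans b2.2.1)
    rw [hone l hl0 hl, hone 1 h1.1 h1.2]
  have h4 : h = 4 := by
    rcases hsmall with a | a | a
    · exact absurd (show P l = P 1 by rw [show l = 1 by omega]) hlne
    · exact a
    · exfalso
      have hcard := Finset.card_le_card_of_injOn (s := Finset.Ioo 0 h) (t := S.powersetCard 2) P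
        (fun j hj => Finset.mem_powersetCard.2 ⟨hPS j (Finset.mem_Ioo.1 hj).1 (Finset.mem_Ioo.1 hj).2,
          hP2 j (Finset.mem_Ioo.1 hj).1 (Finset.mem_Ioo.1 hj).2⟩)
        (fun i hi k hk e => by
          rw [Finset.coe_Ioo, Set.mem_Ioo] at hi hk
          by_contra hne
          have := (hdist i k hi.1 hi.2 hk.1 hk.2 hne).1
          rw [e, Finset.inter_self, hP2 k hk.1 hk.2] at this
          omega)
      rw [Finset.card_powersetCard, hScard, Nat.card_Ioo, show Nat.choose 4 2 = 6 from rfl] at hcard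
      omega
  subst h4
  have q2 : (0 : ℕ) < 2 ∧ 2 < 4 := by omega
  have q3 : (0 : ℕ) < 3 ∧ 3 < 4 := by omega
  obtain ⟨c13, Y13, v13⟩ := hdist 1 3 h1.1 h1.2 q3.1 q3.2 (by norm_num)
  obtain ⟨c12, Y12, v12⟩ := hdist 1 2 h1.1 h1.2 q2.1 q2.2 (by norm_num)
  obtain ⟨c23, -, -⟩ := hdist 2 3 q2.1 q2.2 q3.1 q3.2 (by norm_num)
  obtain ⟨e, he⟩ := Finset.card_eq_one.1 c13
  have hem : e ∈ P 1 ∧ e ∈ P 3 := Finset.mem_inter.1 (by rw [he]; exact Finset.mem_singleton_self e)
  obtain ⟨f, hf⟩ := Finset.card_eq_one.1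
    (show ((P 1).erase e).card = 1 by rw [Finset.card_erase_of_mem hem.1, hP2 1 h1.1 h1.2])
  obtain ⟨g, hg⟩ := Finset.card_eq_one.1
    (show ((P 3).erase e).card = 1 by rw [Finset.card_erase_of_mem hem.2, hP2 3 q3.1 q3.2])
  have hP1 : P 1 = {e, f} := by rw [← Finset.insert_erase hem.1, hf]
  have hP3 : P 3 = {e, g} := by rw [← Finset.insert_erase hem.2, hg]
  have nef : e ≠ f := fun h' => by
    have := hP2 1 h1.1 h1.2; rw [hP1, h'] at this; simp at this
  have neg' : e ≠ g := fun h' => by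
    have := hP2 3 q3.1 q3.2; rw [hP3, h'] at this; simp at this
  have nfg : f ≠ g := fun h' => by
    rw [hP1, hP3, h', Finset.inter_self, Finset.card_pair neg'] at c13; omega
  have hsub : ({e, f, g} : Finset α) ⊆ S := by
    intro x hx
    simp only [Finset.mem_insert, Finset.mem_singleton] at hx
    rcases hx with rfl | rfl | rfl
    · exact hPS 1 h1.1 h1.2 hem.1
    · exact hPS 1 h1.1 h1.2 (by simp [hP1])
    · exact hPS 3 q3.1 q3.2 (by simp [hP3])
  obtain ⟨i, hi⟩ := Finset.card_eq_one.1 (show (S \ {e, f, g}).card = 1 by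
    rw [Finset.card_sdiff_of_subset hsub, hScard, Finset.card_insert_of_notMem
      (by simp [nef, neg']), Finset.card_pair nfg])
  have hiS : i ∈ S ∧ i ∉ ({e, f, g} : Finset α) :=
    Finset.mem_sdiff.1 (by rw [hi]; exact Finset.mem_singleton_self i)
  obtain ⟨nie, nif, nig⟩ : i ≠ e ∧ i ≠ f ∧ i ≠ g := by simpa using hiS.2
  have hSe : S = {e, f, g, i} := by
    rw [← Finset.union_sdiff_of_subset hsub, hi]; ext; simp
  -- values
  have hIoo : Finset.Ioo 0 4 = ({1, 2, 3} : Finset ℕ) := rfl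
  have hmv : ∀ x, midValue 4 w x = w 4 x + 2 * (-w 1 x + w 2 x - w 3 x) := fun x => by
    rw [midValue, hIoo, Finset.sum_insert (by decide), Finset.sum_pair (by decide)]; ring
  have hY1 : midValue 4 w (Y 1) = -2 * w 1 (Y 1) := by
    rw [hmv, hwh0 _ (hYS 1 h1.1 h1.2)]
    rw [show w 2 (Y 1) = w 1 (Y 1) by rw [v12, ← Y12], show w 3 (Y 1) = w 1 (Y 1) by rw [v13, ← Y13]]
    ring
  -- the degree relations
  have hdegj : ∀ j, 0 < j → j < 4 → ∀ a b, P j = {a, b} → a ≠ b →
      w 4 a * deg a + w 4 b * deg b + w j (Y j) * deg (Y j) = 0 := by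
    intro j hj0 hj a b hab hne
    have e' := hrel j hj0 hj.le
    have ha : a ∈ S := hPS j hj0 hj (by simp [hab])
    have hb : b ∈ S := hPS j hj0 hj (by simp [hab])
    have naY : a ≠ Y j := fun h' => hYS j hj0 hj (h' ▸ ha)
    have nbY : b ≠ Y j := fun h' => hYS j hj0 hj (h' ▸ hb)
    rw [← Finset.sum_subset (Finset.subset_univ ({a, b, Y j} : Finset α)) (fun x _ hx => by
      simp only [Finset.mem_insert, Finset.mem_singleton, not_or] at hx
      rw [hval j hj0 hj x hx.2.2, if_neg (by simp [hab, hx.1, hx.2.1]), zero_mul]),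
      Finset.sum_insert (by simp [hne, naY]), Finset.sum_pair nbY, hwY j hj0 hj a ha,
      hwY j hj0 hj b hb, if_pos (by simp [hab]), if_pos (by simp [hab])] at e'
    linarith
  have hdeg4 : w 4 e * deg e + w 4 f * deg f + w 4 g * deg g + w 4 i * deg i = 0 := by
    have e' := hrel 4 (by norm_num) le_rfl
    rw [← Finset.sum_subset (Finset.subset_univ S) (fun x _ hx => by rw [hwh0 x hx, zero_mul]),
      hSe, Finset.sum_insert (by simp [nef, neg', nie.symm]),
      Finset.sum_insert (by simp [nfg, nif.symm]), Finset.sum_pair nig.symm] at e'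
    linarith
  have d1 := hdegj 1 h1.1 h1.2 e f hP1 nef
  have d3 := hdegj 3 q3.1 q3.2 e g hP3 neg'
  rw [← Y13, show w 3 (Y 1) = w 1 (Y 1) by rw [v13, ← Y13]] at d3
  have hP2sub : ∀ x ∈ P 2, x = e ∨ x = f ∨ x = g ∨ x = i := fun x hx => by
    have := hPS 2 q2.1 q2.2 hx
    rw [hSe] at this
    simpa using this
  rw [hP1] at c12
  rw [hP3] at c23
  have hv : ∀ x ∈ S, w 1 x = (if x ∈ P 1 then w 4 x else 0) ∧
      w 2 x = (if x ∈ P 2 then w 4 x else 0) ∧ w 3 x = (if x ∈ P 3 then w 4 x else 0) :=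
    fun x hx => ⟨hwY 1 h1.1 h1.2 x hx, hwY 2 q2.1 q2.2 x hx, hwY 3 q3.1 q3.2 x hx⟩
  have hve := hv e (by simp [hSe])
  have hvf := hv f (by simp [hSe])
  have hvg := hv g (by simp [hSe])
  have hvi := hv i (by simp [hSe])
  by_cases hE : e ∈ P 2
  · -- three pairs through `e`
    have hF : f ∉ P 2 := fun h' => by
      rw [show ({e, f} : Finset α) ∩ P 2 = {e, f} from Finset.inter_eq_left.2 (by
        simp [Finset.insert_subset_iff, hE, h']), Finset.card_pair nef] at c12
      omega
    have hG : g ∉ P 2 := fun h' => by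
      rw [show P 2 ∩ ({e, g} : Finset α) = {e, g} from Finset.inter_eq_right.2 (by
        simp [Finset.insert_subset_iff, hE, h']), Finset.card_pair neg'] at c23
      omega
    have hP2e : P 2 = {e, i} := by
      refine Finset.eq_of_subset_of_card_le (fun x hx => ?_)
        (by rw [hP2 2 q2.1 q2.2, Finset.card_pair nie.symm])
      rcases hP2sub x hx with rfl | rfl | rfl | rfl
      · simp
      · exact absurd hx hF
      · exact absurd hx hG
      · simp
    have d2 := hdegj 2 q2.1 q2.2 e i hP2e nie.symm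
    rw [← Y12, show w 2 (Y 1) = w 1 (Y 1) by rw [v12, ← Y12]] at d2
    refine ⟨e, f, i, g, Y 1, Or.inr (Or.inl ⟨mk e f i g _ hP1 (by rw [hSe]; ext; simp; tauto)
      nef nie.symm neg' nif.symm nfg nig ?_ ?_ ?_ ?_ hY1,
      w 4 f * deg f, ?_, rfl, ?_, ?_⟩)⟩
    all_goals first
      | linarith
      | (rw [hmv]
         simp only [hve, hvf, hvg, hvi, hP1, hP2e, hP3,
           Finset.mem_insert, Finset.mem_singleton, nef, nef.symm, neg', neg'.symm, nfg, nfg.symm,
           nie, nie.symm, nif, nif.symm, nig, nig.symm, or_true, true_or, or_self, or_false,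
           false_or, if_true, if_false]
         ring)
  · -- a triangle
    have hF : f ∈ P 2 := by
      by_contra h'
      rw [show ({e, f} : Finset α) ∩ P 2 = ∅ from Finset.eq_empty_of_forall_notMem fun x hx => by
        obtain ⟨a, b⟩ := Finset.mem_inter.1 hx
        simp only [Finset.mem_insert, Finset.mem_singleton] at a
        rcases a with rfl | rfl <;> contradiction] at c12
      simp at c12
    have hG : g ∈ P 2 := by
      by_contra h'
      rw [show P 2 ∩ ({e, g} : Finset α) = ∅ from Finset.eq_empty_of_forall_notMem fun x hx => by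
        obtain ⟨a, b⟩ := Finset.mem_inter.1 hx
        simp only [Finset.mem_insert, Finset.mem_singleton] at b
        rcases b with rfl | rfl <;> contradiction] at c23
      simp at c23
    have hP2e : P 2 = {f, g} := (Finset.eq_of_subset_of_card_le
      (by simp [Finset.insert_subset_iff, hF, hG]) (by rw [hP2 2 q2.1 q2.2, Finset.card_pair nfg])).symm
    have d2 := hdegj 2 q2.1 q2.2 f g hP2e nfg
    rw [← Y12, show w 2 (Y 1) = w 1 (Y 1) by rw [v12, ← Y12]] at d2
    refine ⟨e, f, g, i, Y 1, Or.inr (Or.inr ⟨mk e f g i _ hP1 hSe nef neg' nie.symm nfg nif.symm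
      nig.symm ?_ ?_ ?_ ?_ hY1, w 4 e * deg e, rfl, ?_, ?_, ?_⟩)⟩
    all_goals first
      | linarith
      | (rw [hmv]
         simp only [hve, hvf, hvg, hvi, hP1, hP2e, hP3,
           Finset.mem_insert, Finset.mem_singleton, nef, nef.symm, neg', neg'.symm, nfg, nfg.symm,
           nie, nie.symm, nif, nif.symm, nig, nig.symm, or_true, true_or, or_self, or_false,
           false_or, if_true, if_false]
         ring)

end Cfsg.Lib.GW.Twist
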