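import Mathlib

/-!
# The degree equations

Integers congruent to `1` modulo `4` play the degrees with signs of the characters of odd degree;
the two equations are those of the first and of the middle row.
-/

set_option autoImplicit false

namespace Cfsg.Lib.GW.Twist

/-- The right side of the first equation. -/
def rhs (X : ℤ) : ℚ := 1 + 1 / (X : ℚ) - 4 / (1 + (X : ℚ))

theorem far {X : ℤ} (h : X % 4 = 1) (h1 : X ≠ 1) (h3 : X ≠ -3) : X ≤ -7 ∨ 5 ≤ X := by omega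

theorem rhs_range {X : ℤ} (h : X % 4 = 1) (h1 : X ≠ 1) (h3 : X ≠ -3) :
    (X = 5 ∧ rhs X = 8 / 15) ∨ (X = 9 ∧ rhs X = 32 / 45) ∨
      (13 ≤ X ∧ 72 / 91 ≤ rhs X ∧ rhs X < 1) ∨ (X ≤ -7 ∧ 1 < rhs X ∧ rhs X ≤ 32 / 21) := by
  have e : X ≠ 0 → X ≠ -1 → rhs X = ((X : ℚ) - 1) ^ 2 / ((X : ℚ) * (1 + X)) := by
    intro a b
    have a' : (X : ℚ) ≠ 0 := by exact_mod_cast a
    have b' : (1 + (X : ℚ)) ≠ 0 := by
      have : (1 + X) ≠ 0 := by omega
      exact_mod_cast this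
    rw [rhs]
    field_simp
    ring
  rcases (show X = 5 ∨ X = 9 ∨ 13 ≤ X ∨ X ≤ -7 by omega) with c | c | c | c
  · exact Or.inl ⟨c, by subst c; norm_num [rhs]⟩
  · exact Or.inr (Or.inl ⟨c, by subst c; norm_num [rhs]⟩)
  · refine Or.inr (Or.inr (Or.inl ⟨c, ?_⟩))
    have c' : (13 : ℚ) ≤ X := by exact_mod_cast c
    have d : 0 < (X : ℚ) * (1 + X) := by positivity
    rw [e (by omega) (by omega), le_div_iff₀ d, div_lt_one d]
    exact ⟨by nlinarith, by nlinarith⟩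
  · refine Or.inr (Or.inr (Or.inr ⟨c, ?_⟩))
    have c' : (X : ℚ) ≤ -7 := by exact_mod_cast c
    have d : 0 < (X : ℚ) * (1 + X) := by nlinarith
    rw [e (by omega) (by omega), lt_div_iff₀ d, div_le_iff₀ d]
    exact ⟨by nlinarith, by nlinarith⟩

theorem rhs_ge {X : ℤ} (h : X % 4 = 1) (h1 : X ≠ 1) (h3 : X ≠ -3) :
    8 / 15 ≤ rhs X ∧ rhs X ≤ 32 / 21 := by
  rcases rhs_range h h1 h3 with ⟨-, e⟩ | ⟨-, e⟩ | ⟨-, a, b⟩ | ⟨-, a, b⟩ <;> constructor <;> linarith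

theorem inv_bound {X : ℤ} {c : ℚ} (hc : 0 < c) (h : c ≤ (X : ℚ)) :
    0 < 1 / (X : ℚ) ∧ 1 / (X : ℚ) ≤ 1 / c :=
  ⟨by have : (0 : ℚ) < X := lt_of_lt_of_le hc h; positivity, one_div_le_one_div_of_le hc h⟩

/-- The first equation, ordered. -/
theorem first_ordered {x X X₁ : ℤ} (hx : x % 4 = 1) (hX : X % 4 = 1) (hx1 : x ≠ 1) (hX1 : X ≠ 1)
    (hx3 : x ≠ -3) (hX3 : X ≠ -3) (hxX : x ≤ X) (g : X₁ % 4 = 1) (g1 : X₁ ≠ 1) (g3 : X₁ ≠ -3)
    (he : 1 / (x : ℚ) + 1 / (X : ℚ) - 4 / ((x : ℚ) + X) = rhs X₁) :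
    x = -15 ∧ ((X = 5 ∧ X₁ = 5) ∨ (X = 9 ∧ X₁ = 9)) := by
  obtain ⟨lo, hi⟩ := rhs_ge g g1 g3
  rcases far hx hx1 hx3 with a | a
  · rcases far hX hX1 hX3 with b | b
    · exfalso
      have a' : (x : ℚ) ≤ -7 := by exact_mod_cast a
      have b' : (X : ℚ) ≤ -7 := by exact_mod_cast b
      have e : 1 / (x : ℚ) + 1 / (X : ℚ) - 4 / ((x : ℚ) + X) =
          ((x : ℚ) - X) ^ 2 / ((x : ℚ) * X * (x + X)) := by
        have h1 : (x : ℚ) ≠ 0 := by linarith
        have h2 : (X : ℚ) ≠ 0 := by linarith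
        have h3 : (x : ℚ) + X ≠ 0 := by linarith
        field_simp
        ring
      have : ((x : ℚ) - X) ^ 2 / ((x : ℚ) * X * (x + X)) ≤ 0 :=
        div_nonpos_of_nonneg_of_nonpos (sq_nonneg _)
          (mul_nonpos_of_nonneg_of_nonpos (mul_nonneg_of_nonpos_of_nonpos (by linarith) (by linarith))
            (by linarith))
      linarith
    · obtain ⟨S, hS⟩ : ∃ S, S = -(x + X) := ⟨_, rfl⟩
      have hx' : (x : ℚ) = -((X : ℚ) + S) := by rw [hS]; push_cast; ring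
      have b' : (5 : ℚ) ≤ X := by exact_mod_cast b
      obtain ⟨p1, p2⟩ := inv_bound (by norm_num) b'
      rw [hx', show -((X : ℚ) + S) + X = -(S : ℚ) by ring] at he
      simp only [div_neg, sub_neg_eq_add] at he
      rcases lt_trichotomy S 0 with s | s | s
      · exfalso
        have s' : (S : ℚ) ≤ -2 := by exact_mod_cast (show S ≤ -2 by omega)
        have : 4 / (S : ℚ) ≤ 0 := div_nonpos_of_nonneg_of_nonpos (by norm_num) (by linarith)
        have hpos : 0 < 1 / ((X : ℚ) + S) := by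
          have : (0 : ℤ) < X + S := by omega
          have : (0 : ℚ) < (X : ℚ) + S := by exact_mod_cast this
          positivity
        linarith
      · omega
      · have q1 : 0 < 1 / ((X : ℚ) + S) := by
          have : (0 : ℚ) < S := by exact_mod_cast s
          positivity
        rcases (show S = 2 ∨ S = 6 ∨ S = 10 ∨ 14 ≤ S by omega) with c | c | c | c
        · exfalso
          subst c
          push_cast at he q1 hx'
          have : 1 / ((X : ℚ) + 2) < 1 / (X : ℚ) := one_div_lt_one_div_of_lt (by linarith) (by linarith)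
          linarith
        · subst c
          push_cast at he q1
          have hlt : 1 / ((X : ℚ) + 6) < 1 / (X : ℚ) :=
            one_div_lt_one_div_of_lt (by linarith) (by linarith)
          have hX0 : (X : ℚ) ≠ 0 := by linarith
          have hX6 : (X : ℚ) + 6 ≠ 0 := by linarith
          have ed : 1 / (X : ℚ) - 1 / ((X : ℚ) + 6) = 6 / ((X : ℚ) * (X + 6)) := by
            field_simp
            ring
          have hle : 6 / ((X : ℚ) * (X + 6)) ≤ 6 / 55 :=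
            div_le_div_of_nonneg_left (by norm_num) (by norm_num) (by nlinarith)
          rcases rhs_range g g1 g3 with ⟨-, r⟩ | ⟨c1, r⟩ | ⟨-, r, -⟩ | ⟨-, r, -⟩
          · linarith
          · rw [r] at he
            have key : 6 / ((X : ℚ) * (X + 6)) = 2 / 45 := by linarith
            rw [div_eq_div_iff (mul_ne_zero hX0 hX6) (by norm_num)] at key
            have h9 : (X - 9) * (X + 15) = 0 := by
              have : ((X : ℚ) - 9) * ((X : ℚ) + 15) = 0 := by linarith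
              exact_mod_cast this
            rcases mul_eq_zero.1 h9 with d | d
            · exact ⟨by omega, Or.inr ⟨by omega, c1⟩⟩
            · omega
          · linarith
          · linarith
        · subst c
          push_cast at he q1
          have hX0 : (X : ℚ) ≠ 0 := by linarith
          have hX10 : (X : ℚ) + 10 ≠ 0 := by linarith
          have ed : 1 / (X : ℚ) - 1 / ((X : ℚ) + 10) = 10 / ((X : ℚ) * (X + 10)) := by
            field_simp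
            ring
          rcases (show X = 5 ∨ 9 ≤ X by omega) with d | d
          · subst d
            norm_num at he
            rcases rhs_range g g1 g3 with ⟨c1, -⟩ | ⟨-, r⟩ | ⟨-, r, -⟩ | ⟨-, r, -⟩
            · exact ⟨by omega, Or.inl ⟨rfl, c1⟩⟩
            all_goals linarith
          · exfalso
            have d' : (9 : ℚ) ≤ X := by exact_mod_cast d
            have hle : 10 / ((X : ℚ) * (X + 10)) ≤ 10 / 171 :=
              div_le_div_of_nonneg_left (by norm_num) (by norm_num) (by nlinarith)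
            linarith
        · exfalso
          have c' : (14 : ℚ) ≤ S := by exact_mod_cast c
          have : 4 / (S : ℚ) ≤ 4 / 14 := div_le_div_of_nonneg_left (by norm_num) (by norm_num) c'
          linarith
  · exfalso
    have a' : (5 : ℚ) ≤ x := by exact_mod_cast a
    have b' : (5 : ℚ) ≤ X := le_trans a' (by exact_mod_cast hxX)
    obtain ⟨-, q1⟩ := inv_bound (by norm_num) a'
    obtain ⟨-, q2⟩ := inv_bound (by norm_num) b'
    have : 0 < 4 / ((x : ℚ) + X) := by positivity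
    linarith

/-- The first equation. -/
theorem first {x X X₁ : ℤ} (hx : x % 4 = 1) (hX : X % 4 = 1) (hx1 : x ≠ 1) (hX1 : X ≠ 1)
    (hx3 : x ≠ -3) (hX3 : X ≠ -3) (g : X₁ % 4 = 1) (g1 : X₁ ≠ 1) (g3 : X₁ ≠ -3)
    (he : 1 / (x : ℚ) + 1 / (X : ℚ) - 4 / ((x : ℚ) + X) = rhs X₁) :
    (X₁ = 5 ∧ x + X = -10 ∧ 1 / (x : ℚ) + 1 / (X : ℚ) = 2 / 15) ∨
      (X₁ = 9 ∧ x + X = -6 ∧ 1 / (x : ℚ) + 1 / (X : ℚ) = 2 / 45) := by
  rcases le_total x X with h | h
  · obtain ⟨rfl, (⟨rfl, e⟩ | ⟨rfl, e⟩)⟩ := first_ordered hx hX hx1 hX1 hx3 hX3 h g g1 g3 he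
    · exact Or.inl ⟨e, by norm_num, by norm_num⟩
    · exact Or.inr ⟨e, by norm_num, by norm_num⟩
  · obtain ⟨rfl, (⟨rfl, e⟩ | ⟨rfl, e⟩)⟩ := first_ordered hX hx hX1 hx1 hX3 hx3 h g g1 g3
      (by rw [← he, add_comm (X : ℚ) (x : ℚ)]; ring)
    · exact Or.inl ⟨e, by norm_num, by norm_num⟩
    · exact Or.inr ⟨e, by norm_num, by norm_num⟩

theorem pair_sum {a b : ℤ} (ha : a ≠ 0) (hb : b ≠ 0) :
    1 / (a : ℚ) + 1 / (b : ℚ) = (a + b : ℤ) / ((a * b : ℤ) : ℚ) := by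
  have a' : (a : ℚ) ≠ 0 := by exact_mod_cast ha
  have b' : (b : ℚ) ≠ 0 := by exact_mod_cast hb
  push_cast
  field_simp
  ring

/-- Two numbers congruent to `3` with a given sum. -/
theorem pair_neg {a b s : ℤ} (ha : a % 4 = 3) (hb : b % 4 = 3) (ha1 : a ≠ -1) (hb1 : b ≠ -1)
    (hs : a + b = s) (hlo : -10 < s) (hhi : s < 10) (ha3 : a ≠ 3 ∨ b ≠ 3) : a * b ≤ -15 := by
  rcases (show a ≤ -5 ∨ 3 ≤ a by omega) with c | c <;> rcases (show b ≤ -5 ∨ 3 ≤ b by omega) with d | d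
  · omega
  · nlinarith
  · nlinarith
  · omega

/-- The second row on the right at `X₁ = 5`. -/
theorem right_five {a b : ℤ} (ha : a % 4 = 3) (hb : b % 4 = 3) (ha1 : a ≠ -1) (hb1 : b ≠ -1)
    (hs : a + b = -6) :
    6 / 5 < 1 + 1 / ((5 : ℤ) : ℚ) + 1 / (a : ℚ) + 1 / (b : ℚ) ∧
      1 + 1 / ((5 : ℤ) : ℚ) + 1 / (a : ℚ) + 1 / (b : ℚ) ≤ 8 / 5 := by
  have hp := pair_neg ha hb ha1 hb1 hs (by omega) (by omega) (by omega)
  have hp' : ((a * b : ℤ) : ℚ) ≤ -15 := by exact_mod_cast hp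
  have e := pair_sum (show a ≠ 0 by omega) (show b ≠ 0 by omega)
  rw [hs] at e
  have l1 : 0 < ((-6 : ℤ) : ℚ) / ((a * b : ℤ) : ℚ) :=
    div_pos_of_neg_of_neg (by norm_num) (by linarith)
  have l2 : ((-6 : ℤ) : ℚ) / ((a * b : ℤ) : ℚ) ≤ 2 / 5 := by
    rw [div_le_iff_of_neg (by linarith)]
    push_cast
    push_cast at hp'
    linarith
  push_cast at e l1 l2 ⊢
  constructor <;> linarith

/-- The second row on the right at `X₁ = 9`. -/
theorem right_nine {a b : ℤ} (ha : a % 4 = 3) (hb : b % 4 = 3) (ha1 : a ≠ -1) (hb1 : b ≠ -1)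
    (hs : a + b = -10) : 32 / 45 ≤ 1 + 1 / ((9 : ℤ) : ℚ) + 1 / (a : ℚ) + 1 / (b : ℚ) := by
  rcases (show (a = -5 ∧ b = -5) ∨ (3 ≤ a ∧ b ≤ -5) ∨ (3 ≤ b ∧ a ≤ -5) by omega) with
    ⟨rfl, rfl⟩ | ⟨c, d⟩ | ⟨c, d⟩
  · norm_num
  all_goals
    have hneg : a * b < 0 := by nlinarith
    have e := pair_sum (show a ≠ 0 by omega) (show b ≠ 0 by omega)
    rw [hs] at e
    have l1 : 0 < ((-10 : ℤ) : ℚ) / ((a * b : ℤ) : ℚ) :=
      div_pos_of_neg_of_neg (by norm_num) (by exact_mod_cast hneg)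
    push_cast at e l1 ⊢
    linarith

/-- No regular solution. -/
theorem false_regular {x X a b X₁ a₁ b₁ : ℤ} (hx : x % 4 = 1) (hX : X % 4 = 1) (hx1 : x ≠ 1)
    (hX1 : X ≠ 1) (hx3 : x ≠ -3) (hX3 : X ≠ -3) (g : X₁ % 4 = 1) (g1 : X₁ ≠ 1) (g3 : X₁ ≠ -3)
    (ha : a % 4 = 3) (hb : b % 4 = 3) (ha1 : a ≠ -1) (hb1 : b ≠ -1) (ha3 : a ≠ 3)
    (hsum : a + b = -(x + X))
    (ga : a₁ % 4 = 3) (gb : b₁ % 4 = 3) (ga1 : a₁ ≠ -1) (gb1 : b₁ ≠ -1)
    (gsum : a₁ + b₁ = -(1 + X₁))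
    (he : 1 / (x : ℚ) + 1 / (X : ℚ) - 4 / ((x : ℚ) + X) = rhs X₁)
    (he2 : 1 / (x : ℚ) + 1 / (X : ℚ) + 1 / (a : ℚ) + 1 / (b : ℚ) =
      1 + 1 / (X₁ : ℚ) + 1 / (a₁ : ℚ) + 1 / (b₁ : ℚ)) : False := by
  have e := pair_sum (show a ≠ 0 by omega) (show b ≠ 0 by omega)
  rcases first hx hX hx1 hX1 hx3 hX3 g g1 g3 he with ⟨c, s, r⟩ | ⟨c, s, r⟩
  · subst c
    have R := (right_five ga gb ga1 gb1 (by omega)).1
    have hs : a + b = 10 := by omega
    rw [hs] at e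
    have : ((10 : ℤ) : ℚ) / ((a * b : ℤ) : ℚ) ≤ 1 := by
      have hor : (3 ≤ a ∧ 3 ≤ b) ∨ a * b ≤ 0 := by
        rcases le_or_gt 3 a with p | p <;> rcases le_or_gt 3 b with q | q
        · exact Or.inl ⟨p, q⟩
        · exact Or.inr (mul_nonpos_of_nonneg_of_nonpos (by omega) (by omega))
        · exact Or.inr (mul_nonpos_of_nonpos_of_nonneg (by omega) (by omega))
        · omega
      rcases hor with ⟨p, q⟩ | p
      · have : (10 : ℤ) ≤ a * b := by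
          rcases (show a = 3 ∧ b = 7 ∨ a = 7 ∧ b = 3 ∨ 10 ≤ a ∨ 10 ≤ b by omega) with
            ⟨rfl, rfl⟩ | ⟨rfl, rfl⟩ | _ | _ <;> nlinarith
        rw [div_le_one (by exact_mod_cast (show (0 : ℤ) < a * b by omega))]
        exact_mod_cast this
      · exact le_trans (div_nonpos_of_nonneg_of_nonpos (by norm_num) (by exact_mod_cast p)) zero_le_one
    linarith
  · subst c
    have R := right_nine ga gb ga1 gb1 (by omega)
    have hs : a + b = 6 := by omega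
    rw [hs] at e
    have hneg := pair_neg ha hb ha1 hb1 hs (by omega) (by omega) (Or.inl ha3)
    have : ((6 : ℤ) : ℚ) / ((a * b : ℤ) : ℚ) ≤ 0 :=
      div_nonpos_of_nonneg_of_nonpos (by norm_num) (by exact_mod_cast (show a * b ≤ 0 by omega))
    linarith

theorem second_five {a b : ℤ} {t : ℚ} (ha : a % 4 = 3) (hb : b % 4 = 3) (ha1 : a ≠ -1)
    (hb1 : b ≠ -1) (hs : a + b = -6) (ht : t < 6 / 5 ∨ 8 / 5 < t)
    (he : t = 1 + 1 / ((5 : ℤ) : ℚ) + 1 / (a : ℚ) + 1 / (b : ℚ)) : False := by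
  obtain ⟨l, u⟩ := right_five ha hb ha1 hb1 hs
  rcases ht with c | c <;> linarith

/-- No solution of the star. -/
theorem false_star {A X₁ a₁ b₁ : ℤ} (hA : A % 4 = 1) (hA1 : A ≠ 1)
    (g : X₁ % 4 = 1) (g1 : X₁ ≠ 1) (g3 : X₁ ≠ -3)
    (ga : a₁ % 4 = 3) (gb : b₁ % 4 = 3) (ga1 : a₁ ≠ -1) (gb1 : b₁ ≠ -1)
    (gsum : a₁ + b₁ = -(1 + X₁))
    (he : 8 / (3 * (A : ℚ)) = rhs X₁)
    (he2 : 32 / (3 * (A : ℚ)) = 1 + 1 / (X₁ : ℚ) + 1 / (a₁ : ℚ) + 1 / (b₁ : ℚ)) : False := by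
  obtain ⟨lo, hi⟩ := rhs_ge g g1 g3
  rcases (show A ≤ -3 ∨ A = 5 ∨ 9 ≤ A by omega) with c | c | c
  · have : (A : ℚ) ≤ -3 := by exact_mod_cast c
    have : 8 / (3 * (A : ℚ)) ≤ 0 := div_nonpos_of_nonneg_of_nonpos (by norm_num) (by linarith)
    linarith
  · subst c
    rcases rhs_range g g1 g3 with ⟨d, -⟩ | ⟨-, r⟩ | ⟨-, r, -⟩ | ⟨-, r, -⟩
    · subst d
      exact second_five ga gb ga1 gb1 (by omega) (t := 32 / (3 * ((5 : ℤ) : ℚ)))
        (Or.inr (by norm_num)) he2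
    all_goals (norm_num at he; linarith)
  · have c' : (27 : ℚ) ≤ 3 * (A : ℚ) := by
      have : (9 : ℚ) ≤ A := by exact_mod_cast c
      linarith
    have : 8 / (3 * (A : ℚ)) ≤ 8 / 27 := div_le_div_of_nonneg_left (by norm_num) (by norm_num) c'
    linarith

/-- No solution of the triangle. -/
theorem false_triangle {A X₁ a₁ b₁ : ℤ} (hA : A % 4 = 3) (hA3 : A ≠ 3)
    (g : X₁ % 4 = 1) (g1 : X₁ ≠ 1) (g3 : X₁ ≠ -3)
    (ga : a₁ % 4 = 3) (gb : b₁ % 4 = 3) (ga1 : a₁ ≠ -1) (gb1 : b₁ ≠ -1)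
    (gsum : a₁ + b₁ = -(1 + X₁))
    (he : 8 / (A : ℚ) = rhs X₁)
    (he2 : 32 / (3 * (A : ℚ)) = 1 + 1 / (X₁ : ℚ) + 1 / (a₁ : ℚ) + 1 / (b₁ : ℚ)) : False := by
  obtain ⟨lo, hi⟩ := rhs_ge g g1 g3
  rcases (show A ≤ -1 ∨ A = 7 ∨ A = 11 ∨ A = 15 ∨ 19 ≤ A by omega) with c | c | c | c | c
  · have : (A : ℚ) ≤ -1 := by exact_mod_cast c
    have : 8 / (A : ℚ) ≤ 0 := div_nonpos_of_nonneg_of_nonpos (by norm_num) (by linarith)
    linarith
  · subst c
    rcases rhs_range g g1 g3 with ⟨-, r⟩ | ⟨-, r⟩ | ⟨-, -, r⟩ | ⟨d, -, -⟩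
    · norm_num at he; linarith
    · norm_num at he; linarith
    · norm_num at he; linarith
    · have d' : (X₁ : ℚ) ≤ -7 := by exact_mod_cast d
      have h0 : (X₁ : ℚ) ≠ 0 := by linarith
      have h1 : (1 + (X₁ : ℚ)) ≠ 0 := by linarith
      rw [rhs] at he
      field_simp at he
      have h' : X₁ * X₁ + 22 * X₁ - 7 = 0 := by
        have : (X₁ : ℚ) * X₁ + 22 * X₁ - 7 = 0 := by push_cast at he; linarith
        exact_mod_cast this
      rcases (show X₁ ≤ -23 ∨ -23 < X₁ by omega) with f | f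
      · nlinarith
      · nlinarith
  · subst c
    rcases rhs_range g g1 g3 with ⟨-, r⟩ | ⟨-, r⟩ | ⟨-, r, -⟩ | ⟨-, r, -⟩ <;>
      (norm_num at he; linarith)
  · subst c
    rcases rhs_range g g1 g3 with ⟨d, -⟩ | ⟨-, r⟩ | ⟨-, r, -⟩ | ⟨-, r, -⟩
    · subst d
      exact second_five ga gb ga1 gb1 (by omega) (t := 32 / (3 * ((15 : ℤ) : ℚ)))
        (Or.inl (by norm_num)) he2
    all_goals (norm_num at he; linarith)
  · have c' : (19 : ℚ) ≤ A := by exact_mod_cast c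
    have : 8 / (A : ℚ) ≤ 8 / 19 := div_le_div_of_nonneg_left (by norm_num) (by norm_num) c'
    linarith

end Cfsg.Lib.GW.Twist
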