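import Cfsg.Agent.Lib.Block.DihedralOrder

/-!
# Linear functions on the centralizer of the central involution

A twist is a multiplicative function on the centralizer of the central involution `J` which is
trivial on the Sylow subgroup and constant on the classes of the sections `J y`, `y` of odd order.
-/

set_option autoImplicit false
set_option linter.unusedSectionVars false
set_option maxHeartbeats 800000

namespace Cfsg.Lib.GW.Twist

open Cfsg Cfsg.Lib.Block
open Cfsg.Lib.Block.DihSylow (oddPart mem_oddPart)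
open scoped ComplexConjugate

universe u

variable {G : Type u} [Group G] [Fintype G]

/-- A multiplicative function on the centralizer of `σ ^ h`, trivial on `P`, compatible with the
fusion of the sections. -/
structure IsTwist (P : Sylow 2 G) (σ : G) (h : ℕ) (L : G → ℂ) : Prop where
  mul : ∀ a b : G, Commute a (σ ^ h) → Commute b (σ ^ h) → L (a * b) = L a * L b
  sylow : ∀ x ∈ (P : Subgroup G), L x = 1
  sections : ∀ g y : G, Commute g (σ ^ h) → y ∈ oddPart σ h → IsConj (σ ^ h * y) g → L g = L y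

theorem isTwist_one (P : Sylow 2 G) (σ : G) (h : ℕ) : IsTwist P σ h (fun _ => (1 : ℂ)) :=
  ⟨fun _ _ _ _ => (mul_one 1).symm, fun _ _ => rfl, fun _ _ _ _ _ => rfl⟩

variable [Fact (Nat.Prime 2)] {P : Sylow 2 G} {σ τ : G} {h : ℕ}

theorem commute_of_mem {y : G} (hy : y ∈ oddPart σ h) : Commute y (σ ^ h) := (mem_oddPart.1 hy).1

namespace IsTwist

variable {L : G → ℂ} (hL : IsTwist P σ h L)

include hL

theorem map_one : L 1 = 1 := hL.sylow 1 (one_mem _)

theorem map_pow {a : G} (ha : Commute a (σ ^ h)) (n : ℕ) : L (a ^ n) = L a ^ n := by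
  induction n with
  | zero => rw [pow_zero, pow_zero, hL.map_one]
  | succ n ih => rw [pow_succ, pow_succ, hL.mul _ _ (ha.pow_left n) ha, ih]

theorem map_inv_mul {a : G} (ha : Commute a (σ ^ h)) : L a⁻¹ * L a = 1 := by
  rw [← hL.mul _ _ ha.inv_left ha, inv_mul_cancel, hL.map_one]

theorem ne_zero {a : G} (ha : Commute a (σ ^ h)) : L a ≠ 0 := fun e => by
  have := hL.map_inv_mul ha
  rw [e, mul_zero] at this
  exact zero_ne_one this

theorem map_inv {a : G} (ha : Commute a (σ ^ h)) : L a⁻¹ = (L a)⁻¹ :=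
  eq_inv_of_mul_eq_one_left (hL.map_inv_mul ha)

theorem pow_orderOf {a : G} (ha : Commute a (σ ^ h)) : L a ^ orderOf a = 1 := by
  rw [← hL.map_pow ha, pow_orderOf_eq_one, hL.map_one]

theorem conj_eq {a : G} (ha : Commute a (σ ^ h)) : conj (L a) = L a⁻¹ := by
  have h1 : ‖L a‖ = 1 :=
    Complex.norm_eq_one_of_pow_eq_one (hL.pow_orderOf ha) (orderOf_pos a).ne'
  rw [hL.map_inv ha, ← Complex.inv_eq_conj h1]

theorem mul_conj_self {a : G} (ha : Commute a (σ ^ h)) : L a * conj (L a) = 1 := by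
  rw [hL.conj_eq ha, mul_comm, hL.map_inv_mul ha]

theorem isIntegral {a : G} (ha : Commute a (σ ^ h)) : IsIntegral ℤ (L a) :=
  IsIntegral.of_pow (orderOf_pos a) (by rw [hL.pow_orderOf ha]; exact isIntegral_one)

theorem conjugate {z a : G} (hz : Commute z (σ ^ h)) (ha : Commute a (σ ^ h)) :
    L (z * a * z⁻¹) = L a := by
  rw [hL.mul _ _ (hz.mul_left ha) hz.inv_left, hL.mul _ _ hz ha, mul_comm (L z), mul_assoc,
    mul_comm (L z), hL.map_inv_mul hz, mul_one]

/-- An element of odd order inverted up to the twist has twist one. -/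
theorem eq_one_of_sq {y : G} (hy : y ∈ oddPart σ h) (h2 : L y * L y = 1) : L y = 1 := by
  obtain ⟨c, hc⟩ := (mem_oddPart.1 hy).2
  have e := hL.pow_orderOf (commute_of_mem hy)
  rwa [hc, pow_succ, pow_mul, pow_two, h2, one_pow, one_mul] at e

variable (D : DihSylow P σ τ h)

include D

theorem map_sylow_mul {x y : G} (hx : x ∈ (P : Subgroup G)) (hy : y ∈ oddPart σ h) :
    L (y * x) = L y := by
  rw [hL.mul _ _ (commute_of_mem hy) (D.central_involution.2.2 x hx), hL.sylow x hx, mul_one]

theorem map_J_mul {y : G} (hy : Commute y (σ ^ h)) : L (σ ^ h * y) = L y := by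
  rw [hL.mul _ _ (Commute.refl _) hy, hL.sylow _ (pow_mem D.memσ h), one_mul]

/-- A twist trivial on the odd part is trivial. -/
theorem eq_one_of_odd (hodd : ∀ y ∈ oddPart σ h, L y = 1) {z : G} (hz : Commute z (σ ^ h)) :
    L z = 1 := by
  obtain ⟨x, hx, hy⟩ := D.oddPart_spec.2.2.2.2.1 z hz
  have e := hL.map_sylow_mul D hx hy
  rwa [inv_mul_cancel_right, hodd _ hy] at e

end IsTwist

variable (D : DihSylow P σ τ h)

include D

theorem mem_center_of_conj {x y y' : G} (hy : y ∈ oddPart σ h) (hy' : y' ∈ oddPart σ h)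
    (he : x * (σ ^ h * y) * x⁻¹ = σ ^ h * y') : Commute x (σ ^ h) := by
  obtain ⟨hJ2, hJ1, -⟩ := D.central_involution
  have hJo : orderOf (σ ^ h) = 2 := orderOf_eq_prime (by rw [pow_two, hJ2]) hJ1
  have hp : ∀ w ∈ oddPart σ h, pPt 2 (σ ^ h * w) = σ ^ h := by
    intro w hw
    obtain ⟨hw1, c, hc⟩ := mem_oddPart.1 hw
    exact (eq_pPt rfl hw1.symm (k := 1) (by rw [hJo, pow_one]) (by omega)).symm
  have e := pPt_conj (p := 2) (σ ^ h * y) x
  rw [he, hp _ hy', hp _ hy] at e
  show x * σ ^ h = σ ^ h * x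
  calc x * σ ^ h = x * σ ^ h * x⁻¹ * x := by group
    _ = σ ^ h * x := by rw [← e]

end Cfsg.Lib.GW.Twist
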